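import Mathlib
import Cfsg.Agent.H35.OddBase.Basic

/-!
Coprime solvable linear groups: the setting of the primitive core of the base-size-two theorem.
-/

set_option autoImplicit false
set_option linter.unusedSectionVars false

namespace H27.Base2

open Module

variable {K V : Type} [Field K] [AddCommGroup V] [Module K V]

/-- Two vectors with trivial common stabiliser in a linear group. -/
def PairFor (G : Subgroup (Module.End K V)ˣ) : Prop :=
  ∃ v w : V, ∀ g ∈ G, (g : Module.End K V) v = v → (g : Module.End K V) w = w → g = 1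

variable (K V) in
/-- The scalar transformations. -/
def scalarU : Kˣ →* (Module.End K V)ˣ := Units.map (algebraMap K (Module.End K V)).toMonoidHom

@[simp] theorem scalarU_apply (c : Kˣ) (v : V) :
    ((scalarU K V c : (Module.End K V)ˣ) : Module.End K V) v = (c : K) • v := rfl

theorem scalarU_comm (c : Kˣ) (g : (Module.End K V)ˣ) :
    scalarU K V c * g = g * scalarU K V c :=
  Units.ext (LinearMap.ext fun v => ((g : Module.End K V).map_smul (c : K) v).symm)

/-- A coprime solvable irreducible linear group containing the scalars, all whose abelian normal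
subgroups consist of scalars. -/
structure LinSetup (G : Subgroup (Module.End K V)ˣ) : Prop where
  solvable : Group.IsSolvable ↥G
  coprime : (Nat.card ↥G : K) ≠ 0
  scal : ∀ c : Kˣ, scalarU K V c ∈ G
  irr : ∀ U : Submodule K V, (∀ g ∈ G, ∀ v ∈ U, (g : Module.End K V) v ∈ U) → U = ⊥ ∨ U = ⊤
  central : ∀ A : Subgroup (Module.End K V)ˣ, A ≤ G → (∀ g ∈ G, ∀ a ∈ A, g * a * g⁻¹ ∈ A) →
    (∀ a ∈ A, ∀ b ∈ A, a * b = b * a) → ∀ a ∈ A, ∃ c : Kˣ, a = scalarU K V c

variable (V) in
/-- The induction hypothesis: bases of size two on smaller modules. -/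
def SmallerPairs : Prop :=
  ∀ (H W : Type) [Group H] [Finite H] [AddCommGroup W] [Finite W] [DistribMulAction H W],
    Group.IsSolvable H → Nat.Coprime (Nat.card H) (Nat.card W) → Nat.card W < Nat.card V →
      H35.OddBase.HasPair H W

/-- An element of prime power order for the characteristic in a coprime group is trivial. -/
theorem LinSetup.eq_one_of_pow_char {G : Subgroup (Module.End K V)ˣ} (h : LinSetup G) {p : ℕ}
    [CharP K p] (hp : p.Prime) {g : (Module.End K V)ˣ} (hg : g ∈ G) {s : ℕ} (hs : g ^ p ^ s = 1) :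
    g = 1 := by
  have h1 : orderOf g ∣ p ^ s := orderOf_dvd_of_pow_eq_one hs
  have h2 : orderOf g ∣ Nat.card ↥G := by
    have := orderOf_dvd_natCard (⟨g, hg⟩ : ↥G)
    rwa [Subgroup.orderOf_mk] at this
  have hnd : ¬ p ∣ Nat.card ↥G := fun hd => h.coprime ((CharP.cast_eq_zero_iff K p _).2 hd)
  have hco : Nat.Coprime (p ^ s) (Nat.card ↥G) := Nat.Coprime.pow_left s ((hp.coprime_iff_not_dvd).2 hnd)
  exact orderOf_eq_one_iff.1 (Nat.eq_one_of_dvd_coprimes hco h1 h2)

end H27.Base2
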