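import Cfsg.Agent.H27.Base2.ModelDefs
import Cfsg.Agent.H27.Base2.Lin

/-!
The groups met in the models for the small fields.
-/

set_option autoImplicit false

namespace H27.Base2

variable (K : Type) [Field K]

/-- The Pauli group with all scalars. -/
def pauli (twisted : Bool) (k : ℕ) : Subgroup (Module.End K (Fin (2 ^ k) → K))ˣ :=
  Subgroup.closure (Set.range (scalarU K (Fin (2 ^ k) → K)) ∪
    {g | ∃ j, (g : Module.End K (Fin (2 ^ k) → K)) = gen K twisted k j})

variable {K}

/-- A coprime solvable group in which the Pauli group is a minimal normal subgroup over scalars. -/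
structure ModelSetup {twisted : Bool} {k : ℕ} (Γ : Subgroup (Module.End K (Fin (2 ^ k) → K))ˣ) :
    Prop where
  solvable : Group.IsSolvable ↥Γ
  coprime : (Nat.card ↥Γ : K) ≠ 0
  le : pauli K twisted k ≤ Γ
  norm : ∀ g ∈ Γ, ∀ a ∈ pauli K twisted k, g * a * g⁻¹ ∈ pauli K twisted k
  normModel : ∀ g ∈ Γ, NormModel K twisted k g
  minimal : ∀ W : Subgroup (Module.End K (Fin (2 ^ k) → K))ˣ,
    Set.range (scalarU K (Fin (2 ^ k) → K)) ⊆ (W : Set (Module.End K (Fin (2 ^ k) → K))ˣ) →
    W ≤ pauli K twisted k → (∀ g ∈ Γ, ∀ a ∈ W, g * a * g⁻¹ ∈ W) →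
    (∀ a ∈ W, a ∈ Set.range (scalarU K (Fin (2 ^ k) → K))) ∨ W = pauli K twisted k

end H27.Base2
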