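import Cfsg.Agent.H27.Base2.Field
import Cfsg.Agent.H27.Base2.Lin

/-!
Primitive groups: the semilinear reduction and the passage to a linear group.
-/

set_option autoImplicit false
set_option linter.style.haveILetI false
set_option linter.unusedSectionVars false

namespace H27.Base2

open H35.OddBase Module

variable {G V : Type} [Group G] [Finite G] [AddCommGroup V] [Finite V] [DistribMulAction G V]
  [FaithfulSMul G V]

theorem card_cast_ne_zero (K : Type) [Field K] [Finite K] [Module K V] [Nontrivial V] {n : ℕ}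
    (hcop : Nat.Coprime n (Nat.card V)) : (n : K) ≠ 0 := by
  intro h
  haveI := Fintype.ofFinite K
  obtain ⟨p, hp⟩ := CharP.exists K
  haveI := hp
  obtain ⟨m, hpp, hm⟩ := FiniteField.card K p
  have h1 : p ∣ n := (CharP.cast_eq_zero_iff K p n).1 h
  have h2 : p ∣ Nat.card V := by
    rw [Module.natCard_eq_pow_finrank (K := K), Nat.card_eq_fintype_card, hm, ← pow_mul]
    exact dvd_pow_self p (Nat.mul_ne_zero m.pos.ne' Module.finrank_pos.ne')
  exact hpp.one_lt.ne' (Nat.eq_one_of_dvd_coprimes hcop h1 h2)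

/-- If the field action is non-trivial, a base of the kernel can be moved to one of the group. -/
theorem hasPair_semi {A : Subgroup G} (D : FieldData G V A) [Nontrivial V]
    (hcop : Nat.Coprime (Nat.card G) (Nat.card V)) {g0 : G} (hg0 : D.σ g0 ≠ 1)
    (hsub : ∀ H : Subgroup G, Nat.card ↥H < Nat.card G → HasPair ↥H V) : HasPair G V := by
  classical
  have htriv : ∀ g : G, g = 1 → ∀ v : V, g • v = v := fun g hg v => by rw [hg, one_smul]
  have hlt : Nat.card ↥D.σ.ker < Nat.card G :=
    Finite.card_subtype_lt (x := g0) fun h => hg0 (MonoidHom.mem_ker.1 h)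
  obtain ⟨v0, w0, hvw⟩ := hsub _ hlt
  have hker : ∀ g : G, D.σ g = 1 → g • v0 = v0 → g • w0 = w0 → g = 1 := fun g h1 h2 h3 =>
    eq_of_smul_eq_smul fun z : V => (hvw ⟨g, h1⟩ h2 h3 z).trans (one_smul G z).symm
  obtain ⟨x, y, hx, hreg⟩ : ∃ x y : V, x ≠ 0 ∧
      ∀ g : G, D.σ g = 1 → g • x = x → g • y = y → g = 1 := by
    by_cases h1 : v0 = 0
    · by_cases h2 : w0 = 0
      · obtain ⟨x, hx⟩ := exists_ne (0 : V)
        exact ⟨x, x, hx, fun g hg _ _ => hker g hg (by rw [h1, smul_zero]) (by rw [h2, smul_zero])⟩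
      · exact ⟨w0, w0, h2, fun g hg h3 _ => hker g hg (by rw [h1, smul_zero]) h3⟩
    · exact ⟨v0, w0, h1, hker⟩
  obtain ⟨ζ, hζ⟩ := IsCyclic.exists_generator (α := D.Kˣ)
  have hσ1 : ∀ g : G, D.σ g (ζ : D.K) = ζ → D.σ g = 1 := by
    intro g hg
    refine RingEquiv.ext fun c => ?_
    by_cases hc : c = 0
    · subst hc; simp
    · obtain ⟨i, hi⟩ := Subgroup.mem_zpowers_iff.1 (hζ (Units.mk0 c hc))
      have hc' : ((ζ : D.K) ^ i) = c := by rw [← Units.val_zpow_eq_zpow_val, hi, Units.val_mk0]
      rw [← hc', map_zpow₀, hg]; rfl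
  have hlin : ∀ g : G, D.σ g = 1 → ∀ (c : D.K) (v : V), g • c • v = c • g • v := fun g hg c v => by
    rw [D.semi, hg, RingAut.one_apply]
  by_cases hline : ∀ z : V, z ∈ D.K ∙ x
  · refine ⟨x, (ζ : D.K) • x, fun g h1 h2 => htriv g ?_⟩
    rw [D.semi, h1] at h2
    have hg := hσ1 g (smul_left_injective D.K hx h2)
    refine hreg g hg h1 ?_
    obtain ⟨c, hc⟩ := Submodule.mem_span_singleton.1 (hline y)
    rw [← hc, hlin g hg, h1]
  push Not at hline
  obtain ⟨y, hy, hreg⟩ : ∃ y : V, y ∉ D.K ∙ x ∧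
      ∀ g : G, D.σ g = 1 → g • x = x → g • y = y → g = 1 := by
    by_cases hy : y ∈ D.K ∙ x
    · obtain ⟨z, hz⟩ := hline
      obtain ⟨c, hc⟩ := Submodule.mem_span_singleton.1 hy
      exact ⟨z, hz, fun g hg h1 _ => hreg g hg h1 (by rw [← hc, hlin g hg, h1])⟩
    · exact ⟨y, hy, hreg⟩
  have huniq : ∀ a b a' b' : D.K, a • x + b • y = a' • x + b' • y → a = a' ∧ b = b' := by
    intro a b a' b' h
    have h1 : (b - b') • y = (a' - a) • x := by
      rw [sub_smul, sub_smul, sub_eq_sub_iff_add_eq_add, add_comm (a' • x), add_comm (b • y), h,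
        add_comm]
    have hb : b = b' := by
      by_contra hne
      refine hy ?_
      rw [show y = ((b - b')⁻¹ * (a' - a)) • x by
        rw [← smul_smul, ← h1, smul_smul, inv_mul_cancel₀ (sub_ne_zero.2 hne), one_smul]]
      exact Submodule.smul_mem _ _ (Submodule.mem_span_singleton_self x)
    subst hb
    exact ⟨smul_left_injective D.K hx (add_right_cancel h), rfl⟩
  let S : Submonoid G :=
    { carrier := {g | g • x = x ∧ ∃ a b : D.K, g • y = a • x + b • y}
      one_mem' := ⟨one_smul G x, 0, 1, by rw [one_smul, zero_smul, one_smul, zero_add]⟩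
      mul_mem' := fun {g h} hg hh => by
        obtain ⟨hgx, a, b, hgy⟩ := hg
        obtain ⟨hhx, a', b', hhy⟩ := hh
        refine ⟨by rw [mul_smul, hhx, hgx], D.σ g a' + D.σ g b' * a, D.σ g b' * b, ?_⟩
        rw [mul_smul, hhy, smul_add, D.semi, D.semi, hgx, hgy, smul_add, smul_smul, smul_smul,
          add_smul]
        abel }
  let H : Subgroup G :=
    { S with
      inv_mem' := fun {g} hg => by
        rw [inv_eq_of_mul_eq_one_right (a := g) (b := g ^ (orderOf g - 1))
          (by rw [← pow_succ', Nat.sub_add_cancel (orderOf_pos g), pow_orderOf_eq_one])]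
        exact S.pow_mem hg _ }
  haveI := Fintype.ofFinite ↥H
  have hdec : ∀ g : ↥H, ∃ a b : D.K, (g : G) • y = a • x + b • y := fun g => g.2.2
  choose a b hab using hdec
  have hxH : ∀ g : ↥H, (g : G) • x = x := fun g => g.2.1
  have hb0 : ∀ g : ↥H, b g ≠ 0 := by
    intro g hg
    have h := hab g
    rw [hg, zero_smul, add_zero] at h
    refine hy ?_
    have h' : y = (D.σ (g : G)).symm (a g) • x := by
      apply MulAction.injective (g : G)
      show (g : G) • y = (g : G) • ((D.σ (g : G)).symm (a g) • x)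
      rw [D.semi, RingEquiv.apply_symm_apply, hxH, h]
    rw [h']
    exact Submodule.smul_mem _ _ (Submodule.mem_span_singleton_self x)
  have hmul : ∀ g h : ↥H, b (g * h) = D.σ (g : G) (b h) * b g := by
    intro g h
    refine (huniq (a (g * h)) _ (D.σ (g : G) (a h) + D.σ (g : G) (b h) * a g) _ ?_).2
    rw [← hab, Subgroup.coe_mul, mul_smul, hab, smul_add, D.semi, D.semi, hxH, hab, smul_add,
      smul_smul, smul_smul, add_smul]
    abel
  set N : D.K := (Nat.card ↥H : D.K) with hN
  have hN0 : N ≠ 0 := card_cast_ne_zero (V := V) D.K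
    (Nat.Coprime.coprime_dvd_left (Subgroup.card_subgroup_dvd_card H) hcop)
  set y0 : V := N⁻¹ • ∑ g : ↥H, (b g)⁻¹ • (g : G) • y with hy0
  obtain ⟨c, hy0'⟩ : ∃ c : D.K, y0 = c • x + y := by
    refine ⟨N⁻¹ * ∑ g : ↥H, (b g)⁻¹ * a g, ?_⟩
    have : ∀ g : ↥H, (b g)⁻¹ • (g : G) • y = ((b g)⁻¹ * a g) • x + y := fun g => by
      rw [hab, smul_add, smul_smul, smul_smul, inv_mul_cancel₀ (hb0 g), one_smul]
    rw [hy0, Finset.sum_congr rfl fun g _ => this g, Finset.sum_add_distrib, ← Finset.sum_smul,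
      smul_add, smul_smul, Finset.sum_const, Finset.card_univ, ← Nat.cast_smul_eq_nsmul D.K,
      ← Nat.card_eq_fintype_card, ← hN, smul_smul, inv_mul_cancel₀ hN0, one_smul]
  have heig : ∀ h : ↥H, (h : G) • y0 = b h • y0 := by
    intro h
    rw [hy0, D.semi, Finset.smul_sum, map_inv₀, hN, map_natCast, ← hN, smul_comm (b h),
      Finset.smul_sum (r := b h)]
    congr 1
    refine Fintype.sum_equiv (Equiv.mulLeft h) _ _ fun g => ?_
    show (h : G) • (b g)⁻¹ • (g : G) • y = b h • (b (h * g))⁻¹ • ((h * g : ↥H) : G) • y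
    rw [D.semi, map_inv₀, hmul, Subgroup.coe_mul, mul_smul, smul_smul (b h), mul_inv_rev,
      ← mul_assoc, mul_inv_cancel₀ (hb0 h), one_mul]
  refine ⟨x, y0 + (ζ : D.K) • x, fun g h1 h2 => htriv g ?_⟩
  have hgH : g ∈ H := by
    refine ⟨h1, c + ζ - D.σ g c - D.σ g (ζ : D.K), 1, ?_⟩
    rw [hy0', smul_add, smul_add, D.semi, D.semi, h1] at h2
    rw [sub_smul, sub_smul, add_smul, one_smul]
    have : g • y = c • x + y + (ζ : D.K) • x - D.σ g c • x - D.σ g (ζ : D.K) • x := by
      rw [← h2]; abel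
    rw [this]; abel
  have hgy0 : g • y0 = b ⟨g, hgH⟩ • y0 := heig ⟨g, hgH⟩
  rw [smul_add, hgy0, D.semi, h1, hy0'] at h2
  obtain ⟨e1, e2⟩ : b ⟨g, hgH⟩ * c + D.σ g (ζ : D.K) = c + ζ ∧ b ⟨g, hgH⟩ = 1 := by
    refine huniq _ _ _ _ ?_
    rw [one_smul, add_smul, add_smul, mul_smul]
    rw [smul_add] at h2
    calc b ⟨g, hgH⟩ • c • x + D.σ g (ζ : D.K) • x + b ⟨g, hgH⟩ • y
        = b ⟨g, hgH⟩ • c • x + b ⟨g, hgH⟩ • y + D.σ g (ζ : D.K) • x := by abel
      _ = c • x + y + (ζ : D.K) • x := h2
      _ = c • x + (ζ : D.K) • x + y := by abel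
  rw [e2, one_mul] at e1
  have hg := hσ1 g (add_left_cancel e1)
  refine hreg g hg h1 ?_
  rw [e2, one_smul, hy0', smul_add, hlin g hg, h1] at hgy0
  exact add_left_cancel hgy0

/-- The linear group of a group commuting with its field. -/
theorem hasPair_linear [Nontrivial V] [Group.IsSolvable G] (hirr : IsIrr G V)
    (hcop : Nat.Coprime (Nat.card G) (Nat.card V)) (D : FieldData G V (Subgroup.center G))
    (hcentral : ∀ N : Subgroup G, N.Normal → IsMulCommutative ↥N → N ≤ Subgroup.center G)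
    (hcore : ∀ Γ : Subgroup (Module.End D.K V)ˣ, LinSetup Γ → PairFor Γ) : HasPair G V := by
  classical
  have hσ : ∀ g : G, D.σ g = 1 := fun g =>
    D.gen g fun a ha => Subgroup.mem_center_iff.1 ha g
  let lin : G →* Module.End D.K V :=
    { toFun := fun g =>
        { toFun := fun v => g • v
          map_add' := smul_add g
          map_smul' := fun c v => by rw [D.semi, hσ, RingAut.one_apply]; rfl }
      map_one' := LinearMap.ext fun v => one_smul G v
      map_mul' := fun g h => LinearMap.ext fun v => mul_smul g h v }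
  let linU : G →* (Module.End D.K V)ˣ := lin.toHomUnits
  have hlinU : ∀ (g : G) (v : V), ((linU g : (Module.End D.K V)ˣ) : Module.End D.K V) v = g • v :=
    fun g v => rfl
  have hinj : Function.Injective linU := fun g h e => eq_of_smul_eq_smul fun v : V =>
    DFunLike.congr_fun (congrArg Units.val e) v
  let f : G × D.Kˣ →* (Module.End D.K V)ˣ :=
    { toFun := fun q => linU q.1 * scalarU D.K V q.2
      map_one' := by rw [Prod.fst_one, Prod.snd_one, map_one, map_one, one_mul]
      map_mul' := fun q q' => by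
        rw [Prod.fst_mul, Prod.snd_mul, map_mul, map_mul, mul_assoc, ← mul_assoc (linU q'.1),
          ← scalarU_comm q.2 (linU q'.1)]
        simp only [mul_assoc] }
  have hgmem : ∀ g : G, linU g ∈ f.range := fun g => ⟨(g, 1), by
    show linU g * scalarU D.K V 1 = linU g; rw [map_one, mul_one]⟩
  have hset : LinSetup f.range := by
    refine ⟨?_, ?_, fun c => ⟨(1, c), ?_⟩, fun U hU => ?_, fun A hA hnorm hcomm a ha => ?_⟩
    · exact solvable_of_surjective f.rangeRestrict_surjective
    · intro h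
      obtain ⟨m, hm⟩ := Subgroup.card_range_dvd f
      have h' : (Nat.card (G × D.Kˣ) : D.K) = 0 := by rw [hm, Nat.cast_mul, h, zero_mul]
      rw [Nat.card_prod, Nat.cast_mul, mul_eq_zero] at h'
      rcases h' with h' | h'
      · exact card_cast_ne_zero (V := V) D.K hcop h'
      · haveI := Fintype.ofFinite D.K
        rw [Nat.card_units, Nat.cast_sub Finite.card_pos, Nat.card_eq_fintype_card,
          FiniteField.cast_card_eq_zero, Nat.cast_one, zero_sub, neg_eq_zero] at h'
        exact one_ne_zero h'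
    · show linU 1 * scalarU D.K V c = scalarU D.K V c
      rw [map_one, one_mul]
    · rcases hirr.2 U.toAddSubgroup fun g v hv => by
          have := hU _ (hgmem g) v hv
          rwa [hlinU] at this with h | h
      · left
        exact (Submodule.eq_bot_iff U).2 fun v hv => (AddSubgroup.eq_bot_iff_forall _).1 h v hv
      · right
        exact Submodule.eq_top_iff'.2 fun v => (AddSubgroup.eq_top_iff' _).1 h v
    · let N : Subgroup G :=
        { carrier := {g | ∃ c : D.Kˣ, linU g * scalarU D.K V c ∈ A}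
          one_mem' := ⟨1, by rw [map_one, map_one, one_mul]; exact A.one_mem⟩
          mul_mem' := by
            rintro g h ⟨c, hc⟩ ⟨e, he⟩
            refine ⟨c * e, ?_⟩
            have h' : f ((g, c) * (h, e)) = f (g, c) * f (h, e) := map_mul f _ _
            exact (show linU (g * h) * scalarU D.K V (c * e) =
              linU g * scalarU D.K V c * (linU h * scalarU D.K V e) from h') ▸ A.mul_mem hc he
          inv_mem' := by
            rintro g ⟨c, hc⟩
            refine ⟨c⁻¹, ?_⟩
            have h' : f (g, c)⁻¹ = (f (g, c))⁻¹ := map_inv f (g, c)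
            exact (show linU g⁻¹ * scalarU D.K V c⁻¹ = (linU g * scalarU D.K V c)⁻¹ from h') ▸
              A.inv_mem hc }
      have hNn : N.Normal := by
        refine ⟨fun n hn g => ?_⟩
        obtain ⟨c, hc⟩ := hn
        refine ⟨c, ?_⟩
        have h' := hnorm _ (hgmem g) _ hc
        rwa [← mul_assoc, mul_assoc _ (scalarU D.K V c), scalarU_comm c (linU g)⁻¹, ← mul_assoc,
          ← map_inv, ← map_mul, ← map_mul] at h'
      have hNc : IsMulCommutative ↥N := by
        refine ⟨⟨fun n m => Subtype.ext (hinj ?_)⟩⟩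
        obtain ⟨c, hc⟩ := n.2
        obtain ⟨e, he⟩ := m.2
        have h1 := hcomm _ hc _ he
        have hc' : ∀ (p q : (Module.End D.K V)ˣ) (i j : D.Kˣ), p * scalarU D.K V i * (q * scalarU D.K V j) =
            p * q * (scalarU D.K V (i * j)) := fun p q i j => by
          rw [map_mul, mul_assoc p, ← mul_assoc (scalarU D.K V i) q, scalarU_comm i q]
          simp only [mul_assoc]
        rw [hc', hc', mul_comm e c, ← map_mul, ← map_mul] at h1
        exact mul_right_cancel h1
      obtain ⟨⟨g, c⟩, rfl⟩ := hA ha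
      have hgc := hcentral N hNn hNc (show g ∈ N from ⟨c, ha⟩)
      obtain ⟨u, hu⟩ : IsUnit (D.ι ⟨g, hgc⟩) := Group.isUnit (⟨g, hgc⟩ : ↥(Subgroup.center G)) |>.map D.ι
      refine ⟨u * c, Units.ext (LinearMap.ext fun v => ?_)⟩
      show g • ((c : D.K) • v) = ((u * c : D.Kˣ) : D.K) • v
      rw [show g • ((c : D.K) • v) = D.ι ⟨g, hgc⟩ • ((c : D.K) • v) from D.scal ⟨g, hgc⟩ _, ← hu,
        smul_smul, Units.val_mul]
  obtain ⟨v, w, h⟩ := hcore _ hset
  refine ⟨v, w, fun g h1 h2 z => ?_⟩
  have := h (linU g) (hgmem g) h1 h2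
  exact DFunLike.congr_fun (congrArg Units.val this) z

end H27.Base2
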