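import Cfsg.Agent.H27.Base2.Trans

/-!
If the section does not span all linear maps, the group preserves a tensor decomposition.
-/

set_option autoImplicit false
set_option linter.style.haveILetI false
set_option linter.unusedSectionVars false

namespace H27.Base2

open Module

variable {K V : Type} [Field K] [Finite K] [AddCommGroup V] [Module K V] [Finite V]

/-- Operators commuting up to a non-degenerate pairing are linearly independent. -/
theorem linearIndependent_of_pairing {N A : Type*} [CommGroup N] [CommGroup A] [Finite N]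
    (P : H35.OddBase.AltPairing N A) {W : Type} [AddCommGroup W] [Module K W] [FiniteDimensional K W]
    [Nontrivial W] {ι : A →* K} (hι : Function.Injective ι) (T : N → Module.End K W)
    (hT : ∀ x y, T x * T y = ι (P.β x y) • (T y * T x)) (hu : ∀ x, IsUnit (T x)) :
    LinearIndependent K T := by
  classical
  haveI := Fintype.ofFinite N
  rw [Fintype.linearIndependent_iff]
  intro c hc
  have key : ∀ y, ∑ x, (c x * ι (P.β y x)) • T x = 0 := by
    intro y
    have h : (∑ x, (c x * ι (P.β y x)) • T x) * T y = 0 := by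
      calc (∑ x, (c x * ι (P.β y x)) • T x) * T y
          = ∑ x, c x • (T y * T x) := by
            rw [Finset.sum_mul]; refine Finset.sum_congr rfl fun x _ => ?_
            rw [mul_smul, smul_mul_assoc, smul_mul_assoc, ← hT]
        _ = T y * ∑ x, c x • T x := by simp only [Finset.mul_sum, mul_smul_comm]
        _ = 0 := by rw [hc, mul_zero]
    exact (hu y).mul_left_eq_zero.1 h
  intro i
  by_contra hci
  obtain ⟨φ, hφ⟩ : ∃ φ : Module.End K W →ₗ[K] K, φ (T i) ≠ 0 := by
    by_contra h
    push Not at h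
    exact (hu i).ne_zero (Module.forall_dual_apply_eq_zero_iff K _ |>.1 h)
  have hind := Fintype.linearIndependent_iff.1
    ((linearIndependent_monoidHom N K).comp (fun x : N => ι.comp (P.β x)) fun a b hab =>
      P.injective (MonoidHom.ext fun z => hι (DFunLike.congr_fun hab z)))
  have := hind (fun x => c x * φ (T x)) ?_ i
  · exact (mul_ne_zero hci hφ) this
  · funext y
    simp only [Finset.sum_apply, Pi.smul_apply, Function.comp_apply, MonoidHom.coe_comp,
      smul_eq_mul, Pi.zero_apply]
    have h := congrArg φ (key y⁻¹)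
    rw [map_sum, map_zero] at h
    rw [← h]
    refine Finset.sum_congr rfl fun x _ => ?_
    rw [map_smul, smul_eq_mul]
    have : P.β x y = P.β y⁻¹ x := by
      rw [map_inv, MonoidHom.inv_apply, eq_inv_iff_mul_eq_one]; exact P.antisymm x y
    rw [this]; ring

namespace Sect

variable [Nontrivial V] {G : Subgroup (Module.End K V)ˣ} (S : Sect G)

/-- The algebra spanned by the section. -/
def spanAlg : Subalgebra K (Module.End K V) :=
  (Submodule.span K (Set.range S.op)).toSubalgebra
    (Submodule.subset_span ⟨1, S.op_one⟩) (by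
      intro a b ha hb
      induction ha using Submodule.span_induction with
      | mem a ha =>
        obtain ⟨x, rfl⟩ := ha
        induction hb using Submodule.span_induction with
        | mem b hb => obtain ⟨y, rfl⟩ := hb; exact Submodule.subset_span ⟨x * y, S.op_mul x y⟩
        | zero => rw [mul_zero]; exact zero_mem _
        | add b b' _ _ h h' => rw [mul_add]; exact add_mem h h'
        | smul c b _ h => rw [mul_smul_comm]; exact Submodule.smul_mem _ c h
      | zero => rw [zero_mul]; exact zero_mem _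
      | add a a' _ _ h h' => rw [add_mul]; exact add_mem h h'
      | smul c a _ h => rw [smul_mul_assoc]; exact Submodule.smul_mem _ c h)

theorem op_mem_spanAlg (x : ↥S.M) : S.op x ∈ S.spanAlg := Submodule.subset_span ⟨x, rfl⟩

theorem finrank_spanAlg_le : finrank K ↥S.spanAlg ≤ Nat.card S.N := by
  classical
  haveI := Fintype.ofFinite S.N
  have h : Submodule.span K (Set.range S.op) =
      Submodule.span K (Set.range fun q : S.N => S.op q.out) := by
    refine le_antisymm (Submodule.span_le.2 ?_) (Submodule.span_mono fun a ⟨q, hq⟩ => ⟨q.out, hq⟩)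
    rintro _ ⟨x, rfl⟩
    set y : ↥S.M := (QuotientGroup.mk x : S.N).out
    obtain ⟨c, hc⟩ := S.mem_Z.1 (QuotientGroup.eq.1 (QuotientGroup.out_eq' (QuotientGroup.mk x : S.N)))
    have : S.op x = (c : K) • S.op y := by
      show ((x : (Module.End K V)ˣ) : Module.End K V) = _
      rw [show (x : (Module.End K V)ˣ) = y * scalarU K V c by
        rw [hc, Subgroup.coe_mul, Subgroup.coe_inv, mul_inv_cancel_left]]
      refine LinearMap.ext fun v => ?_
      rw [Units.val_mul, Module.End.mul_apply, scalarU_apply, map_smul]; rfl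
    show S.op x ∈ Submodule.span K (Set.range fun q : S.N => S.op q.out)
    rw [this]
    exact Submodule.smul_mem _ _ (Submodule.subset_span ⟨QuotientGroup.mk x, rfl⟩)
  show finrank K ↥(Submodule.span K (Set.range S.op)) ≤ _
  rw [h, Nat.card_eq_fintype_card]
  exact finrank_range_le_card _

namespace MFrame

variable {S} (F : S.MFrame) (hG : LinSetup G)

/-- A proper span gives a tensor decomposition with both factors non-trivial. -/
theorem exists_tensor [Fintype F.U] (hT : LinearMap.range (F.Ψ hG) ≠ ⊤) :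
    ∃ (m n : ℕ) (Φ : V ≃ₗ[K] Matrix (Fin m) (Fin n) K), 2 ≤ m ∧ 2 ≤ n ∧
      ∀ g ∈ G, ∃ (A : GL (Fin m) K) (B : GL (Fin n) K), ∀ v,
        Φ ((g : Module.End K V) v) = A.1 * Φ v * B.1 := by
  classical
  obtain ⟨-, hcard, -⟩ := F.Ψ_spec hG
  set T := LinearMap.range (F.Ψ hG) with hTdef
  set e := finrank K ↥T with he
  have he2 : 2 ≤ e := by
    haveI := S.nontrivial_N
    have h1 : 1 < Nat.card S.N := Finite.one_lt_card
    rw [hcard] at h1
    by_contra h
    push Not at h
    have : e ^ 2 ≤ 1 ^ 2 := Nat.pow_le_pow_left (by omega) 2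
    omega
  haveI : Nontrivial ↥T := Module.nontrivial_of_finrank_pos (R := K) (by omega)
  -- restriction to the invariant subspace
  have hinv : ∀ a ∈ S.spanAlg, ∀ v ∈ T, a v ∈ T := by
    intro a ha
    change a ∈ Submodule.span K (Set.range S.op) at ha
    induction ha using Submodule.span_induction with
    | mem a ha => obtain ⟨x, rfl⟩ := ha; exact fun v hv => F.range_invariant hG x hv
    | zero => exact fun v _ => T.zero_mem
    | add a b _ _ h h' => exact fun v hv => T.add_mem (h v hv) (h' v hv)
    | smul c a _ h => exact fun v hv => T.smul_mem c (h v hv)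
  let res : ↥S.spanAlg →ₐ[K] Module.End K ↥T :=
    AlgHom.ofLinearMap
      { toFun := fun a => a.1.restrict (hinv a.1 a.2)
        map_add' := fun a b => LinearMap.ext fun v => Subtype.ext rfl
        map_smul' := fun c a => LinearMap.ext fun v => Subtype.ext rfl }
      (LinearMap.ext fun v => Subtype.ext rfl) fun a b => LinearMap.ext fun v => Subtype.ext rfl
  have hres : ∀ (a : ↥S.spanAlg) (v : ↥T), ((res a v : ↥T) : V) = a.1 (v : V) := fun a v => rfl
  have hsurj : Function.Surjective res := by
    have hli : LinearIndependent K fun q : S.N => res ⟨S.op q.out, S.op_mem_spanAlg _⟩ := by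
      refine linearIndependent_of_pairing S.pairing (ι := Units.coeHom K) Units.val_injective _
        (fun p q => LinearMap.ext fun v => Subtype.ext ?_) fun q => ?_
      · have hb : S.pairing.β p q = S.β p.out q.out := by
          conv_lhs => rw [← QuotientGroup.out_eq' p, ← QuotientGroup.out_eq' q]
          exact S.pairing_mk _ _
        show S.op p.out (S.op q.out (v : V)) = (S.pairing.β p q : K) • S.op q.out (S.op p.out (v : V))
        rw [hb]
        have h := DFunLike.congr_fun (congrArg Units.val (S.β_spec p.out q.out)) (v : V)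
        simpa [Units.val_mul] using h
      · refine IsUnit.map res ?_
        refine ⟨⟨⟨S.op q.out, S.op_mem_spanAlg _⟩, ⟨S.op q.out⁻¹, S.op_mem_spanAlg _⟩, ?_, ?_⟩, rfl⟩
        · exact Subtype.ext (by show S.op q.out * S.op q.out⁻¹ = 1; rw [← S.op_mul, mul_inv_cancel]; rfl)
        · exact Subtype.ext (by show S.op q.out⁻¹ * S.op q.out = 1; rw [← S.op_mul, inv_mul_cancel]; rfl)
    haveI := Fintype.ofFinite S.N
    have htop : Submodule.span K (Set.range fun q : S.N => res ⟨S.op q.out, S.op_mem_spanAlg _⟩) = ⊤ :=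
      hli.span_eq_top_of_card_eq_finrank (by
        rw [Module.finrank_linearMap, ← Nat.card_eq_fintype_card, hcard, sq])
    have : LinearMap.range res.toLinearMap = ⊤ := top_unique (htop ▸ Submodule.span_le.2 (by
      rintro _ ⟨q, rfl⟩; exact ⟨_, rfl⟩))
    exact LinearMap.range_eq_top.1 this
  have hinj : Function.Injective res := by
    have h1 : finrank K (Module.End K ↥T) = finrank K ↥S.spanAlg := by
      refine le_antisymm (LinearMap.finrank_le_finrank_of_surjective (f := res.toLinearMap) hsurj) ?_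
      rw [Module.finrank_linearMap, ← sq, ← he, ← hcard]
      exact S.finrank_spanAlg_le
    exact (LinearMap.injective_iff_surjective_of_finrank_eq_finrank (f := res.toLinearMap) h1.symm).2 hsurj
  let ψ : ↥S.spanAlg ≃ₐ[K] Module.End K ↥T := AlgEquiv.ofBijective res ⟨hinj, hsurj⟩
  let b := Module.finBasis K ↥T
  let μ : ↥S.spanAlg ≃ₐ[K] Matrix (Fin e) (Fin e) K := ψ.trans (LinearMap.toMatrixAlgEquiv b)
  let ε : Fin e → Fin e → ↥S.spanAlg := fun i j => μ.symm (Matrix.single i j 1)
  have hεmul : ∀ i j k, ε i j * ε j k = ε i k := fun i j k => by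
    simp only [ε, ← map_mul, Matrix.single_mul_single_same, one_mul]
  have hεmul0 : ∀ i j k l, j ≠ k → ε i j * ε k l = 0 := fun i j k l h => by
    simp [ε, ← map_mul, h]
  have hεsum : ∑ i, ε i i = 1 := by
    simp only [ε, ← map_sum, Matrix.sum_single_eq_diagonal, Matrix.diagonal_one, map_one]
  let i0 : Fin e := ⟨0, by omega⟩
  let Z : Submodule K V := LinearMap.range (ε i0 i0).1
  have hεapp : ∀ (p q : ↥S.spanAlg) (v : V), (p * q).1 v = p.1 (q.1 v) := fun p q v => rfl
  have hZmem : ∀ i v, (ε i0 i).1 v ∈ Z := fun i v => ⟨(ε i0 i).1 v, by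
    rw [← hεapp, hεmul]⟩
  have hZfix : ∀ z ∈ Z, (ε i0 i0).1 z = z := by
    rintro _ ⟨v, rfl⟩
    rw [← hεapp, hεmul]
  let Φ0 : V ≃ₗ[K] (Fin e → ↥Z) :=
    { toFun := fun v i => ⟨(ε i0 i).1 v, hZmem i v⟩
      map_add' := fun v w => funext fun i => Subtype.ext (map_add _ _ _)
      map_smul' := fun c v => funext fun i => Subtype.ext (map_smul _ _ _)
      invFun := fun z => ∑ i, (ε i i0).1 (z i : V)
      left_inv := fun v => by
        show ∑ i, (ε i i0).1 ((ε i0 i).1 v) = v
        simp only [← hεapp, hεmul]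
        have := congrArg (fun a : ↥S.spanAlg => a.1 v) hεsum
        simpa [AddSubmonoidClass.coe_finsetSum, LinearMap.sum_apply] using this
      right_inv := fun z => funext fun j => Subtype.ext (by
        show (ε i0 j).1 (∑ i, (ε i i0).1 (z i : V)) = z j
        rw [map_sum, Finset.sum_eq_single j]
        · rw [← hεapp, hεmul]; exact hZfix _ (z j).2
        · intro i _ hij
          rw [← hεapp, hεmul0 i0 j i i0 (Ne.symm hij)]; rfl
        · intro h; exact absurd (Finset.mem_univ j) h) }
  set nZ := finrank K ↥Z with hnZ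
  have hd : finrank K V = e * nZ := by
    rw [Φ0.finrank_eq, Module.finrank_pi_fintype, Finset.sum_const, Finset.card_univ,
      Fintype.card_fin, smul_eq_mul]
  have hlt : e < finrank K V := Submodule.finrank_lt hT
  have hn2 : 2 ≤ nZ := by
    by_contra h
    push Not at h
    have h' : e * nZ ≤ e * 1 := Nat.mul_le_mul_left e (by omega)
    omega
  let bZ := Module.finBasis K ↥Z
  let Φ : V ≃ₗ[K] Matrix (Fin e) (Fin nZ) K :=
    Φ0.trans (LinearEquiv.piCongrRight fun _ => bZ.equivFun)
  have hΦ : ∀ v i j, Φ v i j = bZ.repr (Φ0 v i) j := fun v i j => rfl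
  refine ⟨e, nZ, Φ, he2, hn2, fun g hg => ?_⟩
  -- conjugation on the algebra
  have hconj : ∀ (h : (Module.End K V)ˣ), h ∈ G → ∀ a ∈ S.spanAlg,
      (h : Module.End K V) * a * (h⁻¹ : (Module.End K V)ˣ) ∈ S.spanAlg := by
    intro h hh a ha
    change a ∈ Submodule.span K (Set.range S.op) at ha
    induction ha using Submodule.span_induction with
    | mem a ha =>
      obtain ⟨x, rfl⟩ := ha
      exact Submodule.subset_span ⟨⟨h * x * h⁻¹, S.norm h hh x x.2⟩, rfl⟩
    | zero => rw [mul_zero, zero_mul]; exact zero_mem _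
    | add a a' _ _ h1 h2 => rw [mul_add, add_mul]; exact add_mem h1 h2
    | smul c a _ h1 => rw [mul_smul_comm, smul_mul_assoc]; exact Subalgebra.smul_mem _ h1 c
  let cg : ↥S.spanAlg ≃ₐ[K] ↥S.spanAlg :=
    { toFun := fun a => ⟨_, hconj g hg a.1 a.2⟩
      invFun := fun a => ⟨_, hconj g⁻¹ (G.inv_mem hg) a.1 a.2⟩
      left_inv := fun a => Subtype.ext (by
        show ((g⁻¹ : (Module.End K V)ˣ) : Module.End K V) * ((g : Module.End K V) * a.1 * (g⁻¹ : (Module.End K V)ˣ)) * (g⁻¹⁻¹ : (Module.End K V)ˣ) = a.1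
        simp [mul_assoc])
      right_inv := fun a => Subtype.ext (by
        show (g : Module.End K V) * (((g⁻¹ : (Module.End K V)ˣ) : Module.End K V) * a.1 * (g⁻¹⁻¹ : (Module.End K V)ˣ)) * (g⁻¹ : (Module.End K V)ˣ) = a.1
        simp [mul_assoc])
      map_mul' := fun a b => Subtype.ext (by
        show (g : Module.End K V) * (a.1 * b.1) * (g⁻¹ : (Module.End K V)ˣ) =
          (g : Module.End K V) * a.1 * (g⁻¹ : (Module.End K V)ˣ) * ((g : Module.End K V) * b.1 * (g⁻¹ : (Module.End K V)ˣ))
        simp [mul_assoc])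
      map_add' := fun a b => Subtype.ext (by
        show (g : Module.End K V) * (a.1 + b.1) * (g⁻¹ : (Module.End K V)ˣ) = _
        rw [mul_add, add_mul]; rfl)
      commutes' := fun c => Subtype.ext (by
        show (g : Module.End K V) * algebraMap K _ c * (g⁻¹ : (Module.End K V)ˣ) = algebraMap K _ c
        rw [← Algebra.commutes, mul_assoc, Units.mul_inv, mul_one]) }
  obtain ⟨L, hL⟩ := ((ψ.symm.trans cg).trans ψ).eq_linearEquivConjAlgEquiv
  let l : (Module.End K ↥T)ˣ := ⟨L.toLinearMap, L.symm.toLinearMap,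
    LinearMap.ext fun v => L.apply_symm_apply v, LinearMap.ext fun v => L.symm_apply_apply v⟩
  let a : (↥S.spanAlg)ˣ := Units.map ψ.symm.toMonoidHom l
  have hca : ∀ x : ↥S.spanAlg, cg x = (a : ↥S.spanAlg) * x * (a⁻¹ : (↥S.spanAlg)ˣ) := by
    intro x
    apply ψ.injective
    have h1 := DFunLike.congr_fun hL (ψ x)
    simp only [AlgEquiv.trans_apply, AlgEquiv.symm_apply_apply] at h1
    rw [h1, map_mul, map_mul]
    show _ = ψ (ψ.symm L.toLinearMap) * ψ x * ψ (ψ.symm L.symm.toLinearMap)
    rw [AlgEquiv.apply_symm_apply, AlgEquiv.apply_symm_apply]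
    exact LinearMap.ext fun v => rfl
  let z : Module.End K V := ((a⁻¹ : (↥S.spanAlg)ˣ) : ↥S.spanAlg).1 * (g : Module.End K V)
  have hza : (g : Module.End K V) = (a : ↥S.spanAlg).1 * z := by
    rw [← mul_assoc, ← Subalgebra.coe_mul, Units.mul_inv, Subalgebra.coe_one, one_mul]
  have hzcomm : ∀ x : ↥S.spanAlg, z * x.1 = x.1 * z := by
    intro x
    have h1 : (g : Module.End K V) * x.1 =
        (a : ↥S.spanAlg).1 * x.1 * ((a⁻¹ : (↥S.spanAlg)ˣ) : ↥S.spanAlg).1 * (g : Module.End K V) := by
      have h := congrArg (fun y : ↥S.spanAlg => y.1 * (g : Module.End K V)) (hca x)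
      simpa [cg, mul_assoc] using h
    show ((a⁻¹ : (↥S.spanAlg)ˣ) : ↥S.spanAlg).1 * (g : Module.End K V) * x.1 = _
    rw [mul_assoc, h1]
    simp only [← mul_assoc, ← Subalgebra.coe_mul, Units.inv_mul]
    simp [z, mul_assoc]
  have hzu : IsUnit z := IsUnit.mul ((a⁻¹).isUnit.map S.spanAlg.val) g.isUnit
  have hzapp : ∀ (x : ↥S.spanAlg) (v : V), z (x.1 v) = x.1 (z v) := fun x v => by
    rw [← Module.End.mul_apply, hzcomm x]; rfl
  have hzZ : ∀ w ∈ Z, z w ∈ Z := fun w hw => ⟨z w, by rw [← hzapp, hZfix w hw]⟩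
  let A : Matrix (Fin e) (Fin e) K := μ (a : ↥S.spanAlg)
  let M : Matrix (Fin nZ) (Fin nZ) K := (LinearMap.toMatrix bZ bZ (z.restrict hzZ)).transpose
  have hM : IsUnit M := by
    refine (Matrix.isUnit_transpose _).2 ?_
    show IsUnit (LinearMap.toMatrixAlgEquiv bZ (z.restrict hzZ))
    refine IsUnit.map _ ((Module.End.isUnit_iff _).2 ?_)
    have hinj' : Function.Injective (z.restrict hzZ) := fun p q h =>
      Subtype.ext (((Module.End.isUnit_iff _).1 hzu).1 (congrArg Subtype.val h))
    exact ⟨hinj', LinearMap.injective_iff_surjective.1 hinj'⟩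
  refine ⟨(a.isUnit.map μ).unit, hM.unit, fun v => ?_⟩
  show Φ ((g : Module.End K V) v) = A * Φ v * M
  have hrow : ∀ i, (ε i0 i * (a : ↥S.spanAlg)) = ∑ k, A i k • ε i0 k := by
    intro i
    apply μ.injective
    rw [map_mul, map_sum]
    simp only [map_smul, ε, AlgEquiv.apply_symm_apply]
    ext p q
    simp [Matrix.sum_apply, Matrix.single_apply, Matrix.mul_apply, A, ite_and]
  have hΦg : ∀ i, Φ0 ((g : Module.End K V) v) i = ∑ k, A i k • z.restrict hzZ (Φ0 v k) := by
    intro i
    refine Subtype.ext ?_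
    show (ε i0 i).1 ((g : Module.End K V) v) = _
    rw [hza, Module.End.mul_apply, ← hεapp, hrow i]
    simp only [AddSubmonoidClass.coe_finsetSum, LinearMap.sum_apply, Submodule.coe_smul]
    refine Finset.sum_congr rfl fun k _ => ?_
    show A i k • (ε i0 k).1 (z v) = A i k • z ((ε i0 k).1 v)
    rw [hzapp]
  ext i j
  rw [hΦ, hΦg, map_sum, Finsupp.finsetSum_apply, Matrix.mul_assoc, Matrix.mul_apply]
  refine Finset.sum_congr rfl fun k _ => ?_
  rw [map_smul, Finsupp.smul_apply, smul_eq_mul, ← LinearMap.toMatrix_mulVec_repr bZ bZ,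
    Matrix.mul_apply]
  congr 1
  simp only [Matrix.mulVec, dotProduct, M, Matrix.transpose_apply, hΦ]
  exact Finset.sum_congr rfl fun l _ => mul_comm _ _

end MFrame

end Sect

end H27.Base2
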