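import Cfsg.Agent.H27.Base2.Colour
import Cfsg.Agent.H27.Base2.Span
import Cfsg.Agent.H27.Base2.Semi
import Cfsg.Agent.H58.BaseColourTwo
import Cfsg.Agent.H89.BaseTensor

/-!
The linear core: all cases with at least two colours, and the reduction of the rest.
-/

set_option autoImplicit false
set_option linter.style.haveILetI false
set_option linter.unusedSectionVars false

namespace H27.Base2

open Module

/-- Rigid sets for a single colour in dimension at least five. -/
def ColOne : Prop :=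
  ∀ n : ℕ, 5 ≤ n → ∃ col : (Fin n → ZMod 2) → Option (Fin 1),
    RigidOn Set.univ col ∧ ClosesUp col ∧ (col 0).isSome

/-- The finitely many cases with a single colour. -/
def Residual : Prop :=
  ∀ (K V : Type) [Field K] [Finite K] [AddCommGroup V] [Module K V] [Finite V] [Nontrivial V]
    (G : Subgroup (Module.End K V)ˣ) (hG : LinSetup G) (S : Sect G) (F : S.MFrame) [Fintype F.U],
    LinearMap.range (F.Ψ hG) = ⊤ → S.r = 2 → (Nat.card K = 3 ∨ Nat.card K = 5) →
    ∀ n, Nat.card F.U = 2 ^ n → 2 ≤ n → n ≤ 4 → PairFor G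

variable {K V : Type} [Field K] [Finite K] [AddCommGroup V] [Module K V] [Finite V]
variable [Nontrivial V] {G : Subgroup (Module.End K V)ˣ}

theorem isSquare_neg_one_iff_card : IsSquare (-1 : K) ↔ Nat.card K % 4 ≠ 3 := by
  classical
  haveI := Fintype.ofFinite K
  rw [Nat.card_eq_fintype_card]
  exact FiniteField.isSquare_neg_one_iff

theorem charP_three (h : Nat.card K = 9) : CharP K 3 := by
  haveI := Fintype.ofFinite K
  obtain ⟨p, hp⟩ := CharP.exists K
  haveI := hp
  obtain ⟨m, hpp, hm⟩ := FiniteField.card K p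
  rw [← Nat.card_eq_fintype_card, h] at hm
  have h3 : p ∣ 3 ^ 2 := by rw [show 3 ^ 2 = 9 from rfl, hm]; exact dvd_pow_self p m.pos.ne'
  rw [← (Nat.prime_dvd_prime_iff_eq hpp Nat.prime_three).1 (hpp.dvd_of_dvd_pow h3)]
  exact hp

namespace Sect.MFrame

variable {S : Sect G} (F : S.MFrame) (hG : LinSetup G)

/-- The cases with an irreducible section. -/
theorem pairFor_top (hcol : ColOne) (hres : Residual) (hodd : Odd (Nat.card K)) [Fintype F.U]
    (htop : LinearMap.range (F.Ψ hG) = ⊤) : PairFor G := by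
  haveI := Fact.mk S.prime
  obtain ⟨n, hn, ⟨e⟩⟩ := F.exists_coords
  have hq3 : 3 ≤ Nat.card K := by
    obtain ⟨j, hj⟩ := hodd
    have : 1 < Nat.card K := Finite.one_lt_card
    omega
  obtain ⟨m, hm, hB⟩ : ∃ m, finrank K ↥F.B0 = m ∧ Nat.card ↥F.B0 = Nat.card K ^ m :=
    ⟨_, rfl, Module.natCard_eq_pow_finrank⟩
  have hspec := (F.Ψ_spec hG).2.2
  by_cases h2 : S.r = 2
  swap
  · -- odd `r`
    rcases hspec with ⟨h1, ha⟩ | ⟨-, h, -⟩
    swap
    · exact absurd h h2
    obtain ⟨col, hr, hc, -⟩ := H58.BaseColour.exists_colour_odd (r := S.r) (n := n) (C := 2) h2 le_rfl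
    refine F.pairFor_of_coords hG htop e (b := S.r) (fun w hw hw0 => ?_) ?_ col
      (H58.BaseColour.RigidOn.of_univ hr _) hc.closesUp
    · have := (F.orb_line ha hw hw0).1
      rwa [Sect.rr, if_neg h2] at this
    · rw [hB, ← hm, h1, pow_one]
      obtain ⟨k, hk⟩ := S.r_dvd
      have hr3 : 3 ≤ S.r := by have := S.prime.two_le; omega
      have hkeven : 2 ≤ k := by
        rcases Nat.lt_or_ge k 2 with hlt | hge
        · exfalso
          interval_cases k
          · omega
          · obtain ⟨j, hj⟩ := hodd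
            obtain ⟨i, hi⟩ := S.prime.odd_of_ne_two h2
            omega
        · exact hge
      have : S.r * 2 ≤ S.r * k := Nat.mul_le_mul_left _ hkeven
      omega
  -- `r = 2`
  have hsmall : ∀ (C : ℕ), 1 ≤ C → n ≤ 1 →
      ∃ col : (Fin n → ZMod S.r) → Option (Fin C), RigidOn (F.coordPerms hG e) col ∧ ClosedCol col := by
    intro C hC hn1
    refine ⟨fun _ => some ⟨0, hC⟩, fun π _ _ u => ?_, fun z hz => absurd hz (by simp)⟩
    by_cases hu : u = 0
    · rw [hu, map_zero]
    have hπu : π u ≠ 0 := fun h => hu (π.injective (h.trans (map_zero π).symm))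
    have huniq : ∀ v : Fin n → ZMod S.r, v ≠ 0 → ∀ i, v i = 1 := by
      intro v hv i
      haveI : Subsingleton (Fin n) := ⟨fun i j => Fin.ext (by omega)⟩
      have hvi : v i ≠ 0 := fun h => hv (funext fun j => by rw [Subsingleton.elim j i]; exact h)
      have key : ∀ r : ℕ, r = 2 → ∀ x : ZMod r, x ≠ 0 → x = 1 := by
        rintro r rfl; decide
      exact key _ h2 _ hvi
    funext i
    rw [huniq _ hπu i, huniq _ hu i]
  -- colourings for two or three colours
  have hthree : ∀ C : ℕ, 3 ≤ C →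
      ∃ col : (Fin n → ZMod S.r) → Option (Fin C), RigidOn (F.coordPerms hG e) col ∧ ClosedCol col := by
    intro C hC
    have key : ∀ r : ℕ, r = 2 → ∀ (P : Set ((Fin n → ZMod r) ≃+ (Fin n → ZMod r))),
        ∃ col : (Fin n → ZMod r) → Option (Fin C), RigidOn P col ∧ ClosedCol col := by
      rintro r rfl P
      obtain ⟨col, hr, hc, -⟩ := H58.BaseColour.exists_colour_two_three (n := n) (C := C) hC
      exact ⟨col, H58.BaseColour.RigidOn.of_univ hr _, hc⟩
    exact key _ h2 _
  have hlarge : ∀ C : ℕ, 2 ≤ C → 4 ≤ n →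
      ∃ col : (Fin n → ZMod S.r) → Option (Fin C), RigidOn (F.coordPerms hG e) col ∧ ClosedCol col := by
    intro C hC h4
    have key : ∀ r : ℕ, r = 2 → ∀ (P : Set ((Fin n → ZMod r) ≃+ (Fin n → ZMod r))),
        ∃ col : (Fin n → ZMod r) → Option (Fin C), RigidOn P col ∧ ClosedCol col := by
      rintro r rfl P
      obtain ⟨col, hr, hc, -⟩ := H58.BaseColour.exists_colour_two_large (n := n) (C := C) hC (Or.inr h4)
      exact ⟨col, H58.BaseColour.RigidOn.of_univ hr _, hc⟩
    exact key _ h2 _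
  -- the single colour
  have hone : ∀ b : ℕ, (∀ w ∈ F.B0, w ≠ 0 → (F.orb w).ncard ≤ b) → b < Nat.card ↥F.B0 →
      (Nat.card K = 3 ∨ Nat.card K = 5) → PairFor G := by
    intro b hb hlt hq
    have hlt' : 1 * b < Nat.card ↥F.B0 := by rwa [one_mul]
    rcases Nat.lt_or_ge n 2 with hn2 | hn2
    · obtain ⟨col, hr, hc⟩ := hsmall 1 le_rfl (by omega)
      exact F.pairFor_of_coords hG htop e hb hlt' col hr hc.closesUp
    rcases Nat.lt_or_ge n 5 with hn5 | hn5
    · exact hres K V G hG S F htop h2 hq n (h2 ▸ hn) hn2 (by omega)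
    have key : ∀ r : ℕ, r = 2 → ∀ (P : Set ((Fin n → ZMod r) ≃+ (Fin n → ZMod r))),
        ∃ col : (Fin n → ZMod r) → Option (Fin 1), RigidOn P col ∧ ClosesUp col := by
      rintro r rfl P
      obtain ⟨col, hr, hc, -⟩ := hcol n hn5
      exact ⟨col, fun π _ h => hr π (Set.mem_univ π) h, hc⟩
    obtain ⟨col, hr, hc⟩ := key _ h2 (F.coordPerms hG e)
    exact F.pairFor_of_coords hG htop e hb hlt' col hr hc
  by_cases hsq : IsSquare (-1 : K)
  · rcases hspec with ⟨h1, ha⟩ | ⟨-, -, h⟩
    swap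
    · exact absurd hsq h
    have hb : ∀ w ∈ F.B0, w ≠ 0 → (F.orb w).ncard ≤ 4 := fun w hw hw0 => by
      have := (F.orb_line ha hw hw0).1
      rwa [Sect.rr, if_pos h2] at this
    have h4 := isSquare_neg_one_iff_card.1 hsq
    rw [← hm, h1, pow_one] at hB
    by_cases h13 : 13 ≤ Nat.card K
    · obtain ⟨col, hr, hc⟩ := hthree 3 le_rfl
      exact F.pairFor_of_coords hG htop e hb (by omega) col hr hc.closesUp
    by_cases h9 : Nat.card K = 9
    swap
    · refine hone 4 hb (by obtain ⟨j, hj⟩ := hodd; omega) (Or.inr ?_)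
      obtain ⟨j, hj⟩ := hodd
      omega
    haveI := charP_three h9
    rcases Nat.lt_or_ge n 4 with hn4 | hn4
    swap
    · obtain ⟨col, hr, hc⟩ := hlarge 2 le_rfl hn4
      exact F.pairFor_of_coords hG htop e hb (by omega) col hr hc.closesUp
    rcases Nat.lt_or_ge n 2 with hn2 | hn2
    · obtain ⟨col, hr, hc⟩ := hsmall 2 (by norm_num) (by omega)
      exact F.pairFor_of_coords hG htop e hb (by omega) col hr hc.closesUp
    have hP : ∀ π ∈ F.coordPerms hG e, ∀ π' ∈ F.coordPerms hG e, π.trans π' ∈ F.coordPerms hG e := by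
      intro π hπ π' hπ'
      have h := F.perms_trans hG hπ hπ'
      have he : ((e.trans π).trans e.symm).trans ((e.trans π').trans e.symm) =
          (e.trans (π.trans π')).trans e.symm := by ext v; simp
      rwa [he] at h
    have h3 : ∀ π ∈ F.coordPerms hG e, (∀ u, π (π (π u)) = u) → ∀ u, π u = u := by
      intro π hπ hπ3 u
      have h := F.perms_order_three hG (p := 3) rfl hπ (fun v => by simp [hπ3]) (e.symm u)
      simpa using h
    have key : ∀ r : ℕ, r = 2 → ∀ (P : Set ((Fin n → ZMod r) ≃+ (Fin n → ZMod r))),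
        (∀ π ∈ P, ∀ π' ∈ P, π.trans π' ∈ P) → (∀ π ∈ P, (∀ u, π (π (π u)) = u) → ∀ u, π u = u) →
        ∃ col : (Fin n → ZMod r) → Option (Fin 2), RigidOn P col ∧ ClosedCol col := by
      rintro r rfl P h1 h2
      obtain ⟨col, hr, hc, -⟩ :=
        H58.BaseColour.exists_colour_two_small (n := n) (C := 2) (by omega) le_rfl P h1 h2
      exact ⟨col, hr, hc⟩
    obtain ⟨col, hr, hc⟩ := key _ h2 _ hP h3
    exact F.pairFor_of_coords hG htop e hb (by omega) col hr hc.closesUp
  have h4 : Nat.card K % 4 = 3 := by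
    by_contra h
    exact hsq (isSquare_neg_one_iff_card.2 h)
  rcases hspec with ⟨h1, ha⟩ | ⟨h1, -, -⟩
  · have hb : ∀ w ∈ F.B0, w ≠ 0 → (F.orb w).ncard ≤ 2 := fun w hw hw0 =>
      (F.orb_line ha hw hw0).2 h2 hsq
    rw [← hm, h1, pow_one] at hB
    by_cases h7 : 7 ≤ Nat.card K
    · obtain ⟨col, hr, hc⟩ := hthree 3 le_rfl
      exact F.pairFor_of_coords hG htop e hb (by omega) col hr hc.closesUp
    · exact hone 2 hb (by omega) (Or.inl (by omega))
  · have hidx : F.D.relIndex (S.pairing.perp F.D) ≤ 4 := by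
      rcases F.shape with ⟨-, hP⟩ | ⟨-, -, -, -, h⟩
      · rw [hP, Subgroup.relIndex_self]; norm_num
      · exact h
    have hb : ∀ w ∈ F.B0, w ≠ 0 → (F.orb w).ncard ≤ 8 := fun w hw hw0 =>
      F.orb_plane hsq h2 hidx hw hw0
    rw [← hm, h1, sq] at hB
    by_cases h7 : 7 ≤ Nat.card K
    · obtain ⟨col, hr, hc⟩ := hthree 3 le_rfl
      have : 7 * 7 ≤ Nat.card K * Nat.card K := Nat.mul_le_mul h7 h7
      exact F.pairFor_of_coords hG htop e hb (by omega) col hr hc.closesUp
    · have h3 : Nat.card K = 3 := by omega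
      exact hone 8 hb (by rw [hB, h3]; norm_num) (Or.inl h3)

end Sect.MFrame

/-- The linear core. -/
theorem pairFor_of_linSetup (hcol : ColOne) (hres : Residual) (hG : LinSetup G)
    (hIH : SmallerPairs V) (hodd : Odd (Nat.card K)) : PairFor G := by
  classical
  by_cases hscal : G ≤ (scalarU K V).range
  · obtain ⟨x, hx⟩ := exists_ne (0 : V)
    refine ⟨x, x, fun g hg h1 _ => ?_⟩
    obtain ⟨c, rfl⟩ := hscal hg
    rw [scalarU_apply] at h1
    have : c = 1 := Units.ext (smul_left_injective K hx (h1.trans (one_smul K x).symm))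
    rw [this, map_one]
  obtain ⟨S⟩ := hG.nonempty_sect hscal
  obtain ⟨F⟩ := S.nonempty_mframe hG
  haveI : Fintype F.U := Fintype.ofFinite _
  by_cases htop : LinearMap.range (F.Ψ hG) = ⊤
  · exact F.pairFor_top hG hcol hres hodd htop
  · obtain ⟨m, n, Φ, hm, hn, hdec⟩ := F.exists_tensor hG htop
    exact H89.BaseTensor.pairFor_tensor hG hIH hm hn Φ hdec

end H27.Base2
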