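import Cfsg.Agent.H27.Base2.Core
import Cfsg.Agent.H21.Base2.Link

/-!
The residual cases: two-sections of small rank over fields with three or five elements.
-/

set_option autoImplicit false
set_option linter.style.haveILetI false
set_option linter.unusedSectionVars false

namespace H27.Base2

/-- Two vectors are fixed together only by the identity among the normalisers of a model. -/
def CertPair (p : ℕ) (tw : Bool) (k : ℕ) : Prop :=
  ∀ (K : Type) [Field K], Nat.card K = p → ∃ x y : Fin (2 ^ k) → K,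
    ∀ g : (Module.End K (Fin (2 ^ k) → K))ˣ, NormModel K tw k g →
      (g : Module.End K (Fin (2 ^ k) → K)) x = x → (g : Module.End K (Fin (2 ^ k) → K)) y = y → g = 1

/-- The smallest models do not occur. -/
def NoModel (p : ℕ) (tw : Bool) (k : ℕ) : Prop :=
  ∀ (K : Type) [Field K], Nat.card K = p →
    ∀ Γ : Subgroup (Module.End K (Fin (2 ^ k) → K))ˣ, ¬ ModelSetup (twisted := tw) Γ

/-- A pair of vectors for the groups met in a model. -/
def SetupPair (p : ℕ) (tw : Bool) (k : ℕ) : Prop :=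
  ∀ (K : Type) [Field K], Nat.card K = p →
    ∀ Γ : Subgroup (Module.End K (Fin (2 ^ k) → K))ˣ, ModelSetup (twisted := tw) Γ → PairFor Γ

theorem setupPair_of_cert {p : ℕ} {tw : Bool} {k : ℕ} (h : CertPair p tw k) :
    SetupPair p tw k := by
  intro K _ hK Γ hΓ
  obtain ⟨x, y, hxy⟩ := h K hK
  exact ⟨x, y, fun g hg => hxy g (hΓ.normModel g hg)⟩

theorem setupPair_of_noModel {p : ℕ} {tw : Bool} {k : ℕ} (h : NoModel p tw k) :
    SetupPair p tw k := fun K _ hK Γ hΓ => (h K hK Γ hΓ).elim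

/-- The residual cases, from the facts about the models. -/
theorem residual_of
    (h52 : SetupPair 5 false 2) (h53 : SetupPair 5 false 3) (h54 : SetupPair 5 false 4)
    (h32 : SetupPair 3 false 2) (h33 : SetupPair 3 false 3) (h34 : SetupPair 3 false 4)
    (t33 : SetupPair 3 true 3) (t34 : SetupPair 3 true 4) (t35 : SetupPair 3 true 5) :
    Residual := by
  intro K V _ _ _ _ _ _ G hG S F _ htop hr hK n hn h2 h4
  obtain ⟨tw, k, Θ, Γ, hΓ, hmem, -, hcard, htw⟩ :
      ∃ (tw : Bool) (k : ℕ) (Θ : V ≃ₗ[K] (Fin (2 ^ k) → K))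
      (Γ : Subgroup (Module.End K (Fin (2 ^ k) → K))ˣ),
      ModelSetup (twisted := tw) Γ ∧ (∀ g ∈ G, H21.Base2.Link.conjU Θ g ∈ Γ) ∧
      (tw = true ↔ Module.finrank K ↥F.B0 = 2) ∧
      Nat.card F.U = 2 ^ (if tw then k - 1 else k) ∧ (tw = true → Nat.card K = 3) :=
    H21.Base2.Link.exists_model F hG hr htop rfl hK
  refine H21.Base2.Link.pairFor_of_image Θ hmem ?_
  rw [hn] at hcard
  have hk : n = if tw then k - 1 else k := Nat.pow_right_injective le_rfl hcard
  cases tw with
  | false =>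
    simp only [Bool.false_eq_true, if_false] at hk
    subst hk
    rcases hK with hK | hK <;> obtain rfl | rfl | rfl : n = 2 ∨ n = 3 ∨ n = 4 := by omega
    exacts [h32 K hK Γ hΓ, h33 K hK Γ hΓ, h34 K hK Γ hΓ, h52 K hK Γ hΓ, h53 K hK Γ hΓ,
      h54 K hK Γ hΓ]
  | true =>
    simp only [if_true] at hk
    have h3 := htw rfl
    obtain rfl | rfl | rfl : k = 3 ∨ k = 4 ∨ k = 5 := by omega
    exacts [t33 K h3 Γ hΓ, t34 K h3 Γ hΓ, t35 K h3 Γ hΓ]

end H27.Base2
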