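import Cfsg.Agent.H15.BaseCert.P5F2
import Cfsg.Agent.H15.BaseCert.P5F3
import Cfsg.Agent.H15.BaseCert.P5F4
import Cfsg.Agent.H15.BaseCert.P3F4
import Cfsg.Agent.H15.BaseCert.P3T4
import Cfsg.Agent.H15.BaseCert.P3T5
import Cfsg.Agent.H15.BaseCert.P3F3
import Cfsg.Agent.H89.BaseSmall
import Cfsg.Agent.H27.Base2.Residual

/-!
The certified models in the form used by the residual cases.
-/

set_option autoImplicit false

namespace H27.Base2

theorem pair52 : SetupPair 5 false 2 := setupPair_of_cert fun _ _ hK => H15.BaseCert.P5F2.pair hK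
theorem pair53 : SetupPair 5 false 3 := setupPair_of_cert fun _ _ hK => H15.BaseCert.P5F3.pair hK
theorem pair54 : SetupPair 5 false 4 := setupPair_of_cert fun _ _ hK => H15.BaseCert.P5F4.pair hK
theorem pair34 : SetupPair 3 false 4 := setupPair_of_cert fun _ _ hK => H15.BaseCert.P3F4.pair hK
theorem pairT34 : SetupPair 3 true 4 := setupPair_of_cert fun _ _ hK => H15.BaseCert.P3T4.pair hK
theorem pairT35 : SetupPair 3 true 5 := setupPair_of_cert fun _ _ hK => H15.BaseCert.P3T5.pair hK

theorem pair32 : SetupPair 3 false 2 :=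
  setupPair_of_noModel fun _ _ hK _ hΓ => H89.BaseSmall.false_two hK hΓ

theorem pair33 : SetupPair 3 false 3 := fun _ _ hK _ hΓ =>
  H89.BaseSmall.pair_three hK hΓ (H15.BaseCert.P3F3.pair hK)

theorem pairT33 : SetupPair 3 true 3 :=
  setupPair_of_noModel fun _ _ hK _ hΓ => H89.BaseSmall.false_three_twisted hK hΓ

theorem residual : Residual :=
  residual_of pair52 pair53 pair54 pair32 pair33 pair34 pairT33 pairT34 pairT35

end H27.Base2
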