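import Cfsg.Agent.H27.Base2.Orbits

/-!
Transporting colourings of `Fin n → ZMod r` to the blocks.
-/

set_option autoImplicit false
set_option linter.style.haveILetI false
set_option linter.unusedSectionVars false

namespace H27.Base2

open Module

variable {K V : Type} [Field K] [Finite K] [AddCommGroup V] [Module K V] [Finite V]
variable [Nontrivial V] {G : Subgroup (Module.End K V)ˣ}

theorem coords_of_module (r : ℕ) [Fact r.Prime] (W : Type) [AddCommGroup W] [Finite W]
    [Module (ZMod r) W] : ∃ n, Nat.card W = r ^ n ∧ Nonempty (W ≃+ (Fin n → ZMod r)) := by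
  haveI : Module.Finite (ZMod r) W := Module.Finite.of_finite
  have b := Module.finBasis (ZMod r) W
  exact ⟨Module.finrank (ZMod r) W,
    by rw [Module.natCard_eq_pow_finrank (K := ZMod r), Nat.card_zmod], ⟨b.equivFun.toAddEquiv⟩⟩

theorem coords_of_exponent {r : ℕ} [Fact r.Prime] {W : Type} [AddCommGroup W] [Finite W]
    (h : ∀ x : W, r • x = 0) : ∃ n, Nat.card W = r ^ n ∧ Nonempty (W ≃+ (Fin n → ZMod r)) :=
  @coords_of_module r _ W _ _ (AddCommGroup.zmodModule h)

namespace Sect.MFrame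

variable {S : Sect G} (F : S.MFrame)

theorem U_pow (q : F.U) : q ^ S.r = 1 := by
  obtain ⟨n, rfl⟩ := QuotientGroup.mk_surjective q
  rw [← QuotientGroup.mk_pow, S.pow_r]; rfl

/-- Coordinates on the blocks. -/
theorem exists_coords : ∃ n, Nat.card F.U = S.r ^ n ∧
    Nonempty (Additive F.U ≃+ (Fin n → ZMod S.r)) := by
  haveI := Fact.mk S.prime
  haveI : Finite (Additive F.U) := inferInstanceAs (Finite F.U)
  have h := coords_of_exponent (r := S.r) (W := Additive F.U) fun x => by
    show x.toMul ^ S.r = 1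
    exact F.U_pow _
  exact h

variable (hG : LinSetup G)

/-- The transported permutations. -/
def coordPerms {n : ℕ} (e : Additive F.U ≃+ (Fin n → ZMod S.r)) :
    Set ((Fin n → ZMod S.r) ≃+ (Fin n → ZMod S.r)) :=
  {π | (e.trans π).trans e.symm ∈ F.perms hG}

theorem perms_trans {π π' : Additive F.U ≃+ Additive F.U} (h : π ∈ F.perms hG)
    (h' : π' ∈ F.perms hG) : π.trans π' ∈ F.perms hG := by
  obtain ⟨g, hg, hπ⟩ := h
  obtain ⟨g', hg', hπ'⟩ := h'
  have hgg : F.Fixes (g' * g) := ⟨G.mul_mem hg'.1 hg.1, by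
    rw [Units.val_mul, Module.End.mul_apply, hg.2, hg'.2]⟩
  refine ⟨g' * g, hgg, fun q => ?_⟩
  obtain ⟨x, hx⟩ : ∃ x, F.cls x = Additive.toMul q := ⟨F.t hG _, F.cls_t hG _⟩
  rw [AddEquiv.trans_apply, hπ, hπ', toMul_ofMul, ← hx, F.perm_cls, F.perm_cls, F.perm_cls]
  refine congrArg Additive.ofMul (congrArg F.cls (Subtype.ext ?_))
  show g' * (g * (x : (Module.End K V)ˣ) * g⁻¹) * g'⁻¹ = g' * g * x * (g' * g)⁻¹
  group

theorem perms_order_three {p : ℕ} [CharP K p] (hp : p = 3) {π : Additive F.U ≃+ Additive F.U}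
    (h : π ∈ F.perms hG) (h3 : ∀ u, π (π (π u)) = u) (u : Additive F.U) : π u = u := by
  obtain ⟨g, hg, hπ⟩ := h
  have hnd : ¬ 3 ∣ orderOf g := by
    intro hd
    refine hG.coprime ((CharP.cast_eq_zero_iff K p _).2 (hp ▸ hd.trans ?_))
    have := orderOf_dvd_natCard (⟨g, hg.1⟩ : ↥G)
    rwa [Subgroup.orderOf_mk] at this
  have hiter : ∀ (i : ℕ) (x : ↥S.M), ∃ y : ↥S.M,
      (y : (Module.End K V)ˣ) = g ^ i * x * (g ^ i)⁻¹ ∧
      (⇑π)^[i] (Additive.ofMul (F.cls x)) = Additive.ofMul (F.cls y) := by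
    intro i
    induction i with
    | zero => exact fun x => ⟨x, by simp, rfl⟩
    | succ i ih =>
      intro x
      obtain ⟨y, hy, hy'⟩ := ih x
      refine ⟨S.cnj hg.1 y, ?_, ?_⟩
      · show g * (y : (Module.End K V)ˣ) * g⁻¹ = _
        rw [hy, pow_succ']; group
      · rw [Function.iterate_succ_apply', hy', hπ, toMul_ofMul, F.perm_cls]
  obtain ⟨x, hx⟩ : ∃ x, F.cls x = Additive.toMul u := ⟨F.t hG _, F.cls_t hG _⟩
  have hn : Function.IsPeriodicPt (⇑π) (orderOf g) u := by
    obtain ⟨y, hy, hy'⟩ := hiter (orderOf g) x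
    rw [pow_orderOf_eq_one, one_mul, inv_one, mul_one] at hy
    rw [hx, Subtype.ext hy, hx] at hy'
    exact hy'
  have h3' : Function.IsPeriodicPt (⇑π) 3 u := h3 u
  have := h3'.gcd hn
  rw [(Nat.prime_three.coprime_iff_not_dvd.2 hnd).gcd_eq_one] at this
  exact this

/-- The criterion with a colouring in coordinates. -/
theorem pairFor_of_coords [Fintype F.U] (htop : LinearMap.range (F.Ψ hG) = ⊤) {n C b : ℕ}
    (e : Additive F.U ≃+ (Fin n → ZMod S.r))
    (hb : ∀ w ∈ F.B0, w ≠ 0 → (F.orb w).ncard ≤ b) (hC : C * b < Nat.card ↥F.B0)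
    (col : (Fin n → ZMod S.r) → Option (Fin C)) (hrig : RigidOn (F.coordPerms hG e) col)
    (hcl : ClosesUp col) : PairFor G := by
  obtain ⟨vs, h1, h2, h3⟩ := F.exists_sep hb C hC
  refine F.pairFor_of_colouring hG htop vs h1 h2
    (fun i j x hx hxP h => h3 i j ⟨x, hx, hxP, h⟩) (fun u => col (e u)) (fun π hπ hcol u => ?_) ?_
  · refine e.injective ?_
    have h := hrig ((e.symm.trans π).trans e) (by
      show (e.trans ((e.symm.trans π).trans e)).trans e.symm ∈ F.perms hG
      have he : (e.trans ((e.symm.trans π).trans e)).trans e.symm = π := by ext v; simp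
      rw [he]; exact hπ) (fun v => by
        show col (e (π (e.symm v))) = col v
        exact (hcol (e.symm v)).trans (congrArg col (e.apply_symm_apply v))) (e u)
    simpa using h
  · intro X h0 h3 z
    have h := hcl {y | e.symm y ∈ X} (fun y hy => h0 _ (by show col (e (e.symm y)) ≠ none; rwa [e.apply_symm_apply]))
      (fun u v w hu hv hw huv huw hvw => by
        simp only [Set.mem_setOf_eq, map_add] at huv huw hvw ⊢
        exact h3 _ _ _ hu hv hw huv huw hvw) (e z)
    simpa using h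

end Sect.MFrame

end H27.Base2
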