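import Mathlib

/-!
Colourings of the translates in the monomial argument.
-/

set_option autoImplicit false

namespace H27.Base2

/-- Only the identity of `P` preserves the colouring. -/
def RigidOn {U : Type*} [AddCommGroup U] {κ : Type*} (P : Set (U ≃+ U)) (col : U → Option κ) : Prop :=
  ∀ π ∈ P, (∀ u, col (π u) = col u) → ∀ u, π u = u

/-- Every uncoloured point is a sum of three points with all six partial sums coloured. -/
def ClosedCol {U : Type*} [AddCommGroup U] {κ : Type*} (col : U → Option κ) : Prop :=
  ∀ z, col z = none → ∃ u v w, z = u + v + w ∧ col u ≠ none ∧ col v ≠ none ∧ col w ≠ none ∧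
    col (u + v) ≠ none ∧ col (u + w) ≠ none ∧ col (v + w) ≠ none

/-- Every point is reached from the coloured points by repeatedly adding `u + v + w` when the six
points `u, v, w, u + v, u + w, v + w` have been reached. -/
def ClosesUp {U : Type*} [AddCommGroup U] {κ : Type*} (col : U → Option κ) : Prop :=
  ∀ X : Set U, (∀ z, col z ≠ none → z ∈ X) →
    (∀ u v w, u ∈ X → v ∈ X → w ∈ X → u + v ∈ X → u + w ∈ X → v + w ∈ X → u + v + w ∈ X) →
    ∀ z, z ∈ X

theorem ClosedCol.closesUp {U : Type*} [AddCommGroup U] {κ : Type*} {col : U → Option κ}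
    (h : ClosedCol col) : ClosesUp col := by
  intro X h0 h3 z
  by_cases hz : col z = none
  · obtain ⟨u, v, w, rfl, hu, hv, hw, huv, huw, hvw⟩ := h z hz
    exact h3 u v w (h0 _ hu) (h0 _ hv) (h0 _ hw) (h0 _ huv) (h0 _ huw) (h0 _ hvw)
  · exact h0 z hz

end H27.Base2
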