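import Cfsg.Agent.H58.BaseColourOne
import Cfsg.Agent.H27.Base2.Core

/-!
The rigid set in dimension five, and all single colours.
-/

set_option autoImplicit false

namespace H27.Base2

open H58.BaseColour

/-- A rigid set of twelve points. -/
def five : Finset (Fin 5 → ZMod 2) :=
  (([2, 6, 8, 11, 14, 15, 17, 19, 22, 23, 28, 30] : List ℕ).map (vec 5)).toFinset

/-- The two points reached last. -/
def fiveLast : Finset (Fin 5 → ZMod 2) := (([6, 11] : List ℕ).map (vec 5)).toFinset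

/-- The rigid basis inside `five`. -/
def fiveBasis : Finset (Fin 5 → ZMod 2) :=
  (([8, 11, 14, 15, 17, 22, 28, 30] : List ℕ).map (vec 5)).toFinset

/-- A witness `(z, u, v)` uses no point of `B`. -/
def WitOK (B : Finset (Fin 5 → ZMod 2)) (t : ℕ × ℕ × ℕ) : Prop :=
  vec 5 t.2.1 ∉ B ∧ vec 5 t.2.2 ∉ B ∧ vec 5 t.2.1 + vec 5 t.2.2 + vec 5 t.1 ∉ B ∧
    vec 5 t.2.1 + vec 5 t.2.2 ∉ B ∧ vec 5 t.2.2 + vec 5 t.1 ∉ B ∧ vec 5 t.2.1 + vec 5 t.1 ∉ B

instance (B : Finset (Fin 5 → ZMod 2)) (t : ℕ × ℕ × ℕ) : Decidable (WitOK B t) := by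
  unfold WitOK; infer_instance

theorem add_self5 (a : Fin 5 → ZMod 2) : a + a = 0 := funext fun _ => CharTwo.add_self_eq_zero _

theorem reach {X : Set (Fin 5 → ZMod 2)} {B : Finset (Fin 5 → ZMod 2)} (h0 : ∀ z, z ∉ B → z ∈ X)
    (h3 : ∀ u v w, u ∈ X → v ∈ X → w ∈ X → u + v ∈ X → u + w ∈ X → v + w ∈ X → u + v + w ∈ X)
    {t : ℕ × ℕ × ℕ} (ht : WitOK B t) : vec 5 t.1 ∈ X := by
  obtain ⟨z, u, v⟩ := t
  obtain ⟨a, b, c, d, e, f⟩ := ht
  dsimp only at a b c d e f ⊢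
  generalize hu : vec 5 u = U at *
  generalize hv : vec 5 v = W at *
  generalize hz : vec 5 z = Q at *
  have e1 : U + (U + W + Q) = W + Q := by rw [← add_assoc, ← add_assoc, add_self5, zero_add]
  have e2 : W + (U + W + Q) = U + Q := by
    rw [← add_assoc, add_left_comm W U, ← add_assoc, add_assoc U, add_self5, add_zero]
  have h := h3 U W (U + W + Q) (h0 _ a) (h0 _ b) (h0 _ c) (h0 _ d) (e1.symm ▸ h0 _ e)
    (e2.symm ▸ h0 _ f)
  rwa [← add_assoc, add_self5, zero_add] at h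

theorem colour_five : ∃ col : (Fin 5 → ZMod 2) → Option (Fin 1),
    RigidOn Set.univ col ∧ ClosesUp col ∧ (col 0).isSome := by
  refine ⟨mkCol five ∅ 0 0, fun π _ hπ => ?_, fun X h0 h3 => ?_, isSome_mkCol (by decide +kernel)⟩
  · have hZ : ∀ u ∈ five, π u ∈ five := fun u hu => mem_Z_of_preserved hπ hu
    have huniq : ∀ b ∈ fiveBasis, b ∈ five ∧
        ∀ z ∈ five, tri five z = tri five b → quad five z = quad five b → z = b := by decide +kernel
    have hspan : ∀ i, ∃ s ∈ fiveBasis.powerset, ∑ x ∈ s, x = bv i := by decide +kernel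
    refine eq_id_of_basis π fun i => ?_
    obtain ⟨s, hs, e⟩ := hspan i
    rw [← e, map_sum]
    refine Finset.sum_congr rfl fun x hx => ?_
    obtain ⟨hx5, hu⟩ := huniq x (Finset.mem_powerset.1 hs hx)
    exact hu _ (hZ x hx5) (tri_map π hZ x) (quad_map π hZ x)
  · have out : ∀ z, z ∉ five → z ∈ X := fun z hz => h0 z (by
      simp only [mkCol, if_neg hz]
      split <;> simp)
    have w1 : ∀ t ∈ ([(2, 1, 24), (8, 1, 4), (14, 3, 4), (15, 5, 16), (17, 1, 4), (19, 3, 9), (22, 4, 9), (23, 7, 10), (28, 1, 4), (30, 1, 4)] : List (ℕ × ℕ × ℕ)), WitOK five t := by decide +kernel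
    have w2 : ∀ t ∈ ([(6, 1, 2), (11, 1, 2)] : List (ℕ × ℕ × ℕ)), WitOK fiveLast t := by decide +kernel
    have c1 : ∀ z ∈ five, z ∈ fiveLast ∨ ∃ t ∈ ([(2, 1, 24), (8, 1, 4), (14, 3, 4), (15, 5, 16), (17, 1, 4), (19, 3, 9), (22, 4, 9), (23, 7, 10), (28, 1, 4), (30, 1, 4)] : List (ℕ × ℕ × ℕ)), vec 5 t.1 = z := by
      decide +kernel
    have c2 : ∀ z ∈ fiveLast, ∃ t ∈ ([(6, 1, 2), (11, 1, 2)] : List (ℕ × ℕ × ℕ)), vec 5 t.1 = z := by decide +kernel
    have out2 : ∀ z, z ∉ fiveLast → z ∈ X := fun z hz => by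
      by_cases h5 : z ∈ five
      · obtain ⟨t, ht, rfl⟩ := (c1 z h5).resolve_left hz
        exact reach out h3 (w1 t ht)
      · exact out z h5
    intro z
    by_cases h2 : z ∈ fiveLast
    · obtain ⟨t, ht, rfl⟩ := c2 z h2
      exact reach out2 h3 (w2 t ht)
    · exact out2 z h2

theorem colOne : ColOne := by
  intro n hn
  rcases Nat.eq_or_lt_of_le hn with h | h
  · subst h; exact colour_five
  · obtain ⟨col, hr, hc, h0⟩ := exists_colour_single (n := n) h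
    exact ⟨col, hr, hc.closesUp, h0⟩

end H27.Base2
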