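import Cfsg.Agent.H35.OddBase.Main

/-!
The field attached to an abelian normal subgroup of a primitive irreducible group
(the argument is the one of `H35.OddBase.hasPair_of_irr`, without parity hypotheses).
-/

set_option autoImplicit false
set_option linter.style.haveILetI false
set_option linter.unusedSectionVars false

namespace H27.Base2

open H35.OddBase

/-- A field of semilinearity attached to a subgroup. -/
structure FieldData (G V : Type) [Group G] [AddCommGroup V] [DistribMulAction G V]
    (A : Subgroup G) where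
  /-- The field. -/
  K : Type
  [fld : Field K]
  [fin : Finite K]
  [modl : Module K V]
  σ : G →* RingAut K
  semi : ∀ (g : G) (c : K) (v : V), g • c • v = σ g c • g • v
  ι : ↥A →* K
  scal : ∀ (a : ↥A) (v : V), (a : G) • v = ι a • v
  gen : ∀ g : G, (∀ a ∈ A, g * a = a * g) → σ g = 1

attribute [instance] FieldData.fld FieldData.fin FieldData.modl

theorem exists_fieldData {G V : Type} [Group G] [Finite G] [AddCommGroup V] [Finite V]
    [DistribMulAction G V] [FaithfulSMul G V] (hirr : IsIrr G V)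
    (hprim : H34.IsPrim (DistribMulAction.toAddMonoidEnd G V)) (A : Subgroup G) (hAn : A.Normal)
    (hAc : IsMulCommutative ↥A) : Nonempty (FieldData G V A) := by
  classical
  haveI := hirr.1
  haveI : Finite (AddMonoid.End V) := Finite.of_injective (fun f => (f : V → V)) DFunLike.coe_injective
  set φ := DistribMulAction.toAddMonoidEnd G V with hφ
  let K0 : Subring (AddMonoid.End V) := Subring.closure (φ '' (A : Set G))
  haveI : IsMulCommutative ↥K0 := Subring.isMulCommutative_closure (by
    rintro _ ⟨a, ha, rfl⟩ _ ⟨b, hb, rfl⟩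
    rw [← map_mul, ← map_mul]
    exact congrArg φ (congrArg Subtype.val (mul_comm' (⟨a, ha⟩ : ↥A) ⟨b, hb⟩)))
  letI : CommRing ↥K0 := { (inferInstance : Ring ↥K0) with mul_comm := fun a b => mul_comm' a b }
  haveI : Finite ↥K0 := Subtype.finite
  have hconj : ∀ (g : G), ∀ k ∈ K0, φ g * k * φ g⁻¹ ∈ K0 := by
    intro g k hk
    induction hk using Subring.closure_induction with
    | mem k hk =>
      obtain ⟨a, ha, rfl⟩ := hk
      exact Subring.subset_closure ⟨g * a * g⁻¹, hAn.conj_mem a ha g, by rw [map_mul, map_mul]⟩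
    | zero => rw [mul_zero, zero_mul]; exact zero_mem _
    | one => rw [mul_one, H34.map_mul_inv_cancel']; exact one_mem _
    | add x y _ _ hx hy => rw [mul_add, add_mul]; exact add_mem hx hy
    | neg x _ hx => rw [mul_neg, neg_mul]; exact neg_mem hx
    | mul x y _ _ hx hy => rw [← H34.conj_mul φ g x y]; exact mul_mem hx hy
  -- no nilpotent elements
  have hred : ∀ k : ↥K0, IsNilpotent k → k = 0 := by
    intro k hk
    let U : AddSubgroup V :=
      { carrier := {v | ∀ n : ↥K0, IsNilpotent n → n.1 v = 0}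
        zero_mem' := fun n _ => map_zero n.1
        add_mem' := fun ha hb n hn => by rw [map_add, ha n hn, hb n hn, add_zero]
        neg_mem' := fun ha n hn => by rw [map_neg, ha n hn, neg_zero] }
    have hUinv : ∀ g : G, ∀ v ∈ U, g • v ∈ U := by
      intro g v hv n hn
      obtain ⟨j, hj⟩ := hn
      let m : ↥K0 := ⟨φ g⁻¹ * n.1 * φ g⁻¹⁻¹, hconj g⁻¹ n.1 n.2⟩
      have hm : IsNilpotent m := by
        refine ⟨j, Subtype.ext ?_⟩
        have hpw : ∀ i : ℕ, (φ g⁻¹ * n.1 * φ g⁻¹⁻¹) ^ i = φ g⁻¹ * n.1 ^ i * φ g⁻¹⁻¹ := by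
          intro i
          induction i with
          | zero => rw [pow_zero, pow_zero, mul_one, H34.map_mul_inv_cancel']
          | succ i ih => rw [pow_succ, pow_succ, ih, H34.conj_mul]
        rw [SubmonoidClass.coe_pow, hpw, ← SubmonoidClass.coe_pow, hj]
        simp
      have h := hv m hm
      change g⁻¹ • n.1 (g⁻¹⁻¹ • v) = 0 at h
      rw [inv_inv, smul_eq_zero_iff_eq] at h
      exact h
    rcases hirr.2 U hUinv with h | h
    · exfalso
      -- a vector with the smallest orbit under `K0` is killed by all nilpotents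
      haveI := Fintype.ofFinite V
      haveI := Fintype.ofFinite ↥K0
      obtain ⟨v, hv, hmin⟩ := (Finset.univ.filter fun v : V => v ≠ 0).exists_min_image
        (fun v => (Finset.univ.image fun k : ↥K0 => k.1 v).card) (by
          obtain ⟨x, hx⟩ := exists_ne (0 : V)
          exact ⟨x, by simp [hx]⟩)
      have hv0 : v ≠ 0 := (Finset.mem_filter.1 hv).2
      have hvU : v ∈ U := by
        intro n hn
        by_contra hne
        have h1 := hmin (n.1 v) (Finset.mem_filter.2 ⟨Finset.mem_univ _, hne⟩)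
        have hsub : (Finset.univ.image fun k : ↥K0 => k.1 (n.1 v)) ⊆
            Finset.univ.image fun k : ↥K0 => k.1 v := by
          intro t ht
          obtain ⟨r, -, rfl⟩ := Finset.mem_image.1 ht
          exact Finset.mem_image.2 ⟨r * n, Finset.mem_univ _, rfl⟩
        have hmem : v ∈ Finset.univ.image fun k : ↥K0 => k.1 (n.1 v) := by
          rw [Finset.eq_of_subset_of_card_le hsub h1]
          exact Finset.mem_image.2 ⟨1, Finset.mem_univ _, rfl⟩
        obtain ⟨r, -, hr⟩ := Finset.mem_image.1 hmem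
        obtain ⟨j, hj⟩ := (Commute.all r n).isNilpotent_mul_left hn
        have hfix : ∀ i : ℕ, ((r * n) ^ i : ↥K0).1 v = v := by
          intro i
          induction i with
          | zero => rfl
          | succ i ih =>
            rw [pow_succ]
            show ((r * n) ^ i : ↥K0).1 (r.1 (n.1 v)) = v
            rw [hr, ih]
        exact hv0 (by rw [← hfix j, hj]; rfl)
      rw [h, AddSubgroup.mem_bot] at hvU
      exact hv0 hvU
    · exact Subtype.ext (AddMonoidHom.ext fun v => (h ▸ AddSubgroup.mem_top v : v ∈ U) k hk)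
  haveI : Nontrivial ↥K0 := ⟨⟨0, 1, fun h => by
    obtain ⟨x, hx⟩ := exists_ne (0 : V)
    exact hx (congrArg (fun k : ↥K0 => k.1 x) h).symm⟩⟩
  -- no idempotents
  have hid : ∀ e : ↥K0, e * e = e → e = 0 ∨ e = 1 := by
    intro e he
    haveI := Fintype.ofFinite ↥K0
    let E : Finset ↥K0 := Finset.univ.filter fun a => a * a = a ∧ a ≠ 0 ∧
      ∀ f : ↥K0, f * f = f → a * f = 0 ∨ a * f = a
    have hEmem : ∀ a, a ∈ E ↔ a * a = a ∧ a ≠ 0 ∧ ∀ f : ↥K0, f * f = f → a * f = 0 ∨ a * f = a :=
      fun a => by simp [E]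
    have horth : ∀ a ∈ E, ∀ b ∈ E, a ≠ b → a * b = 0 := by
      intro a ha b hb hab
      rw [hEmem] at ha hb
      refine (ha.2.2 b hb.1).resolve_right fun h => ?_
      rcases hb.2.2 a ha.1 with h' | h'
      · exact ha.2.1 (by rw [← h, mul_comm a b, h'])
      · exact hab (by rw [← h, mul_comm a b, h'])
    have hs : ∑ a ∈ E, a = 1 := by
      by_contra hne
      set s := ∑ a ∈ E, a with hsdef
      have hmul : ∀ a ∈ E, a * s = a := fun a ha => by
        rw [hsdef, Finset.mul_sum, Finset.sum_eq_single a (fun b hb hba => horth a ha b hb (Ne.symm hba))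
          (fun h => absurd ha h), ((hEmem a).1 ha).1]
      have hss : s * s = s := by
        nth_rewrite 1 [hsdef]
        rw [Finset.sum_mul]
        exact Finset.sum_congr rfl hmul
      obtain ⟨a, ha1, ha2, ha3, ha4⟩ := exists_atom (e := 1 - s) (by
        rw [sub_mul, one_mul, mul_sub, mul_one, hss]; ring) (sub_ne_zero.2 (Ne.symm hne))
      rw [mul_sub, mul_one, hmul a ((hEmem a).2 ⟨ha1, ha2, ha4⟩), sub_self] at ha3
      exact ha2 ha3.symm
    have hdec : H34.IsDecomp φ (E.map ⟨Subtype.val, Subtype.val_injective⟩) := by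
      refine ⟨?_, ?_, ?_, ?_, ?_⟩
      · simp only [Finset.mem_map, Function.Embedding.coeFn_mk]
        rintro _ ⟨a, ha, rfl⟩
        exact congrArg Subtype.val ((hEmem a).1 ha).1
      · simp only [Finset.mem_map, Function.Embedding.coeFn_mk]
        rintro _ ⟨a, ha, rfl⟩ h
        exact ((hEmem a).1 ha).2.1 (Subtype.ext h)
      · simp only [Finset.mem_map, Function.Embedding.coeFn_mk]
        rintro _ ⟨a, ha, rfl⟩ _ ⟨b, hb, rfl⟩ hab
        exact congrArg Subtype.val (horth a ha b hb fun h => hab (h ▸ rfl))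
      · rw [Finset.sum_map, Function.Embedding.coeFn_mk]
        have := congrArg Subtype.val hs
        rw [AddSubmonoidClass.coe_finset_sum] at this
        exact this
      · intro g
        simp only [Finset.mem_map, Function.Embedding.coeFn_mk]
        rintro _ ⟨a, ha, rfl⟩
        let c : ∀ h : G, ↥K0 → ↥K0 := fun h x => ⟨φ h * x.1 * φ h⁻¹, hconj h x.1 x.2⟩
        have hcm : ∀ h x y, c h (x * y) = c h x * c h y := fun h x y =>
          Subtype.ext (H34.conj_mul φ h x.1 y.1).symm
        have hcc : ∀ h x, c h (c h⁻¹ x) = x := fun h x => Subtype.ext (by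
          show φ h * (φ h⁻¹ * x.1 * φ h⁻¹⁻¹) * φ h⁻¹ = x.1
          rw [H34.conj_conj, mul_inv_cancel, H34.conj_one_arg])
        have hc0 : ∀ h, c h 0 = 0 := fun h => Subtype.ext (by
          show φ h * 0 * φ h⁻¹ = 0
          rw [mul_zero, zero_mul])
        obtain ⟨ha1, ha2, ha3⟩ := (hEmem a).1 ha
        refine ⟨c g a, (hEmem _).2 ⟨by rw [← hcm, ha1], fun h => ha2 ?_, fun f hf => ?_⟩, rfl⟩
        · have h2 := congrArg (c g⁻¹) h
          rw [hc0] at h2
          have h3 := hcc g⁻¹ a
          rw [inv_inv] at h3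
          rwa [h3] at h2
        · rcases ha3 (c g⁻¹ f) (by rw [← hcm, hf]) with h | h
          · left; rw [← hcc g f, ← hcm, h, hc0]
          · right; rw [← hcc g f, ← hcm, h]
    have hle := hprim _ hdec
    rw [Finset.card_map] at hle
    obtain ⟨a, hEa⟩ : ∃ a, E = {a} := by
      refine Finset.card_eq_one.1 (le_antisymm hle (Finset.card_pos.2 ?_))
      by_contra h
      rw [Finset.not_nonempty_iff_eq_empty] at h
      rw [h, Finset.sum_empty] at hs
      exact zero_ne_one hs
    rw [hEa, Finset.sum_singleton] at hs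
    have ha := ((hEmem a).1 (hEa ▸ Finset.mem_singleton_self a)).2.2 e he
    rw [hs, one_mul] at ha
    exact ha
  have hfield : IsField ↥K0 := by
    refine ⟨⟨0, 1, zero_ne_one⟩, mul_comm, fun {a} ha => ?_⟩
    obtain ⟨j, hj, hj2⟩ := H34.exists_pow_idem a
    rcases hid _ hj2 with h | h
    · exact absurd (hred a ⟨j, h⟩) ha
    · exact ⟨a ^ (j - 1), by rw [← pow_succ', Nat.sub_add_cancel hj, h]⟩
  letI : Field ↥K0 := hfield.toField
  letI : Module ↥K0 V := Module.compHom V K0.subtype
  let σf : G → ↥K0 ≃+* ↥K0 := fun g =>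
    { toFun := fun x => ⟨φ g * x.1 * φ g⁻¹, hconj g x.1 x.2⟩
      invFun := fun x => ⟨φ g⁻¹ * x.1 * φ g⁻¹⁻¹, hconj g⁻¹ x.1 x.2⟩
      left_inv := fun x => Subtype.ext (by
        show φ g⁻¹ * (φ g * x.1 * φ g⁻¹) * φ g⁻¹⁻¹ = x.1
        rw [H34.conj_conj, inv_mul_cancel, H34.conj_one_arg])
      right_inv := fun x => Subtype.ext (by
        show φ g * (φ g⁻¹ * x.1 * φ g⁻¹⁻¹) * φ g⁻¹ = x.1
        rw [H34.conj_conj, mul_inv_cancel, H34.conj_one_arg])
      map_mul' := fun x y => Subtype.ext (H34.conj_mul φ g x.1 y.1).symm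
      map_add' := fun x y => Subtype.ext (by
        show φ g * (x.1 + y.1) * φ g⁻¹ = φ g * x.1 * φ g⁻¹ + φ g * y.1 * φ g⁻¹
        rw [mul_add, add_mul]) }
  refine ⟨{
    K := ↥K0
    σ :=
      { toFun := σf
        map_one' := RingEquiv.ext fun x => Subtype.ext (H34.conj_one_arg φ x.1)
        map_mul' := fun g h => RingEquiv.ext fun x => Subtype.ext (H34.conj_conj φ g h x.1).symm }
    semi := fun g c v => by
      show g • c.1 v = g • c.1 (g⁻¹ • g • v)
      rw [inv_smul_smul]
    ι :=
      { toFun := fun a => ⟨φ (a : G), Subring.subset_closure ⟨a, a.2, rfl⟩⟩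
        map_one' := Subtype.ext (map_one φ)
        map_mul' := fun a b => Subtype.ext (map_mul φ (a : G) (b : G)) }
    scal := fun a v => rfl
    gen := fun g hg => ?_ }⟩
  refine RingEquiv.ext fun x => Subtype.ext ?_
  show φ g * x.1 * φ g⁻¹ = x.1
  have hcomm : φ g * x.1 = x.1 * φ g := by
    obtain ⟨y, hy⟩ := x
    show φ g * y = y * φ g
    induction hy using Subring.closure_induction with
    | mem k hk =>
      obtain ⟨a, ha, rfl⟩ := hk
      rw [← map_mul, ← map_mul, hg a ha]
    | zero => rw [mul_zero, zero_mul]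
    | one => rw [mul_one, one_mul]
    | add a b _ _ ha hb => rw [mul_add, add_mul, ha, hb]
    | neg a _ ha => rw [mul_neg, neg_mul, ha]
    | mul a b _ _ ha hb => rw [← mul_assoc, ha, mul_assoc, hb, mul_assoc]
  rw [hcomm, mul_assoc, H34.map_mul_inv_cancel', mul_one]

end H27.Base2
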