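import Cfsg.Agent.H27.Base2.Prim
import Cfsg.Agent.H27.Base2.Certs
import Cfsg.Agent.H27.Base2.ColourFive
import Cfsg.Agent.H21.Base2.Plug

/-!
Coprime solvable groups have base size two.
-/

set_option autoImplicit false

namespace H27.Base2

theorem primStep : H21.Base2.PrimStep := primStep_of colOne residual

theorem coprimeBase2 : H15.BaseRed.CoprimeBase2 := H21.Base2.coprimeBase2_of_prim primStep

end H27.Base2
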