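import Cfsg.Agent.H27.Base2.Lifts

/-!
A vector with as many eigen-lifts as possible, and the translates of its block.
-/

set_option autoImplicit false
set_option linter.style.haveILetI false
set_option linter.unusedSectionVars false

namespace H27.Base2

open Module

variable {K V : Type} [Field K] [Finite K] [AddCommGroup V] [Module K V] [Finite V]
variable [Nontrivial V] {G : Subgroup (Module.End K V)ˣ}

namespace Sect

variable (S : Sect G)

/-- An element of the section as a linear map. -/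
abbrev op (x : ↥S.M) : Module.End K V := ((x : (Module.End K V)ˣ) : Module.End K V)

theorem op_mul (x y : ↥S.M) : S.op (x * y) = S.op x * S.op y := rfl

theorem op_one : S.op 1 = 1 := rfl

/-- The classes with a lift having `u` as eigenvector. -/
def ev (u : V) : Subgroup S.N where
  carrier := {q | ∃ x : ↥S.M, QuotientGroup.mk x = q ∧ ∃ c : K, (S.op x) u = c • u}
  one_mem' := ⟨1, rfl, 1, by rw [one_smul]; rfl⟩
  mul_mem' := by
    rintro _ _ ⟨x, rfl, c, hc⟩ ⟨y, rfl, e, he⟩
    refine ⟨x * y, QuotientGroup.mk_mul _ _ _, e * c, ?_⟩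
    rw [S.op_mul, Module.End.mul_apply, he, map_smul, hc, smul_smul]
  inv_mem' := by
    rintro _ ⟨x, rfl, c, hc⟩
    refine ⟨x⁻¹, QuotientGroup.mk_inv _ _, c⁻¹, ?_⟩
    have h : S.op x⁻¹ ((S.op x) u) = u := by
      rw [← Module.End.mul_apply, ← Units.val_mul, ← Subgroup.coe_mul, inv_mul_cancel]; simp
    rw [hc, map_smul] at h
    by_cases hc0 : c = 0
    · rw [hc0, zero_smul] at h
      rw [← h]; simp
    · calc _ = c⁻¹ • c • S.op x⁻¹ u := by
            rw [inv_smul_smul₀ hc0]
        _ = c⁻¹ • u := by rw [h]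

theorem mem_ev_iff {u : V} (x : ↥S.M) :
    (QuotientGroup.mk x : S.N) ∈ S.ev u ↔ ∃ c : K, (S.op x) u = c • u := by
  refine ⟨fun ⟨y, hy, c, hc⟩ => ?_, fun h => ⟨x, rfl, h⟩⟩
  obtain ⟨s, hs⟩ := S.mem_Z.1 (QuotientGroup.eq.1 hy)
  refine ⟨(s : K) * c, ?_⟩
  have : (x : (Module.End K V)ˣ) = y * scalarU K V s := by
    rw [hs, Subgroup.coe_mul, Subgroup.coe_inv, mul_inv_cancel_left]
  show ((x : (Module.End K V)ˣ) : Module.End K V) u = _
  rw [this, Units.val_mul, Module.End.mul_apply, scalarU_apply, map_smul, hc, smul_smul]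

theorem β_of_eigen {u : V} (hu : u ≠ 0) {x y : ↥S.M} {c e : K}
    (hc : (S.op x) u = c • u) (he : (S.op y) u = e • u) : S.β x y = 1 := by
  have h : ((((x : (Module.End K V)ˣ) * y : (Module.End K V)ˣ)) : Module.End K V) u =
      ((scalarU K V (S.β x y) * ((y : (Module.End K V)ˣ) * x) : (Module.End K V)ˣ) : Module.End K V) u := by
    rw [S.β_spec x y]
  simp only [Units.val_mul, Module.End.mul_apply, scalarU_apply, he, map_smul, hc, smul_smul] at h
  have hne : e * c ≠ 0 := by
    refine mul_ne_zero (fun h0 => hu ?_) (fun h0 => hu ?_)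
    · rw [h0, zero_smul] at he
      exact ((Module.End.isUnit_iff _).1 (y : (Module.End K V)ˣ).isUnit).1 (he.trans (map_zero _).symm)
    · rw [h0, zero_smul] at hc
      exact ((Module.End.isUnit_iff _).1 (x : (Module.End K V)ˣ).isUnit).1 (hc.trans (map_zero _).symm)
  have h2 := smul_left_injective K hu h
  refine Units.ext (mul_right_cancel₀ hne ?_)
  rw [Units.val_one, one_mul]
  calc (S.β x y : K) * (e * c) = _ := by ring
    _ = e * c := h2.symm

theorem apply_comm {x y : ↥S.M} (h : S.β x y = 1) (v : V) :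
    (S.op x) ((S.op y) v) = (S.op y) ((S.op x) v) := by
  have h' := S.β_spec x y
  rw [h, map_one, one_mul] at h'
  exact DFunLike.congr_fun (congrArg Units.val h') v

/-- The block attached to a vector with maximal eigen-class group. -/
structure MFrame where
  u : V
  a : ↥S.M
  D : Subgroup S.N
  u_ne : u ≠ 0
  mem_D : ∀ x : ↥S.M, (QuotientGroup.mk x : S.N) ∈ D ↔ ∃ c : K, (S.op x) u = c • u
  inv : ∀ x : ↥S.M, (QuotientGroup.mk x : S.N) ∈ S.pairing.perp D →
    ∀ w ∈ Submodule.span K {u, (S.op a) u},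
      (S.op x) w ∈ Submodule.span K {u, (S.op a) u}
  scalar : ∀ x : ↥S.M, (QuotientGroup.mk x : S.N) ∈ D →
    ∃ c : K, ∀ w ∈ Submodule.span K {u, (S.op a) u}, (S.op x) w = c • w
  fpf : ∀ x : ↥S.M, (QuotientGroup.mk x : S.N) ∈ S.pairing.perp D →
    ∀ w ∈ Submodule.span K {u, (S.op a) u}, w ≠ 0 →
      (∃ c : K, (S.op x) w = c • w) → (QuotientGroup.mk x : S.N) ∈ D
  shape : (a = 1 ∧ S.pairing.perp D = D) ∨
    (S.r = 2 ∧ ¬ IsSquare (-1 : K) ∧ (QuotientGroup.mk a : S.N) ∈ S.pairing.perp D ∧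
      (QuotientGroup.mk a : S.N) ∉ D ∧ D.relIndex (S.pairing.perp D) ≤ 4)

theorem perp_of_ev {u : V} (hu : u ≠ 0) : S.ev u ≤ S.pairing.perp (S.ev u) := by
  rintro _ ⟨x, rfl, c, hc⟩ _ ⟨y, rfl, e, he⟩
  rw [pairing_mk]
  exact S.β_of_eigen hu hc he

theorem exists_sum_sq (K : Type) [Field K] [Finite K] : ∃ a b : K, a ^ 2 + b ^ 2 = -1 := by
  classical
  haveI := Fintype.ofFinite K
  obtain ⟨p, hp⟩ := CharP.exists K
  haveI := hp
  haveI : NeZero p := ⟨(CharP.char_is_prime K p).ne_zero⟩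
  obtain ⟨a, b, h⟩ := CharP.sq_add_sq K p (-1)
  exact ⟨(a : K), (b : K), by simpa using h⟩

theorem nonempty_mframe (hG : LinSetup G) : Nonempty S.MFrame := by
  classical
  haveI : Finite S.N := inferInstance
  obtain ⟨u0, hu0, hmax⟩ : ∃ u : V, u ≠ 0 ∧ ∀ w : V, w ≠ 0 → Nat.card ↥(S.ev w) ≤ Nat.card ↥(S.ev u) := by
    haveI := Fintype.ofFinite V
    obtain ⟨x, hx⟩ := exists_ne (0 : V)
    obtain ⟨u, hu, hmax⟩ := (Finset.univ.filter fun v : V => v ≠ 0).exists_max_image
      (fun v => Nat.card ↥(S.ev v)) ⟨x, by simp [hx]⟩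
    exact ⟨u, (Finset.mem_filter.1 hu).2, fun w hw => hmax w (by simp [hw])⟩
  set D := S.ev u0 with hDdef
  have hperp : D ≤ S.pairing.perp D := S.perp_of_ev hu0
  have hchi : ∀ x : ↥S.M, (QuotientGroup.mk x : S.N) ∈ D →
      ∃ c : K, (S.op x) u0 = c • u0 := fun x hx => (S.mem_ev_iff x).1 hx
  choose χ hχ using hchi
  let W : Submodule K V :=
    { carrier := {w | ∀ x (hx : (QuotientGroup.mk x : S.N) ∈ D), (S.op x) w = χ x hx • w}
      add_mem' := fun {v w} hv hw x hx => by rw [map_add, hv x hx, hw x hx, smul_add]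
      zero_mem' := fun x hx => by rw [map_zero, smul_zero]
      smul_mem' := fun c w hw x hx => by rw [map_smul, hw x hx, smul_comm] }
  have hu0W : u0 ∈ W := fun x hx => hχ x hx
  have hWinv : ∀ y : ↥S.M, (QuotientGroup.mk y : S.N) ∈ S.pairing.perp D → ∀ w ∈ W,
      (S.op y) w ∈ W := by
    intro y hy w hw x hx
    have hβ : S.β y x = 1 := hy _ hx
    rw [← S.apply_comm hβ, hw x hx, map_smul]
  have hWD : ∀ w ∈ W, w ≠ 0 → S.ev w = D := by
    intro w hw hw0
    refine (Subgroup.eq_of_le_of_card_ge ?_ (hmax w hw0)).symm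
    intro q hq
    obtain ⟨x, rfl⟩ := QuotientGroup.mk_surjective q
    exact ⟨x, rfl, χ x hq, hw x hq⟩
  have hfpf : ∀ (x : ↥S.M) (w : V), w ∈ W → w ≠ 0 → (∃ c : K, (S.op x) w = c • w) →
      (QuotientGroup.mk x : S.N) ∈ D := fun x w hw hw0 h =>
    (hWD w hw hw0).le ((S.mem_ev_iff x).2 h)
  have hmemD : ∀ w ∈ W, w ≠ 0 → ∀ x : ↥S.M,
      ((QuotientGroup.mk x : S.N) ∈ D ↔ ∃ c : K, (S.op x) w = c • w) :=
    fun w hw hw0 x => by rw [← hWD w hw hw0]; exact S.mem_ev_iff x
  by_cases hall : S.pairing.perp D ≤ D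
  · have hspan : ∀ w ∈ Submodule.span K {u0, (S.op 1) u0}, ∃ c : K, w = c • u0 := by
      intro w hw
      simp only [S.op_one, Module.End.one_apply, Set.pair_eq_singleton] at hw
      obtain ⟨c, rfl⟩ := Submodule.mem_span_singleton.1 hw
      exact ⟨c, rfl⟩
    refine ⟨⟨u0, 1, D, hu0, fun x => S.mem_ev_iff x, fun x hx w hw => ?_, fun x hx => ?_,
      fun x hx _ _ _ _ => hall hx, Or.inl ⟨rfl, le_antisymm hall hperp⟩⟩⟩
    · obtain ⟨c, rfl⟩ := hspan w hw
      rw [map_smul, hχ x (hall hx), smul_smul, mul_comm, ← smul_smul]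
      exact Submodule.smul_mem _ _ (Submodule.smul_mem _ _ (Submodule.subset_span (Set.mem_insert _ _)))
    · refine ⟨χ x hx, fun w hw => ?_⟩
      obtain ⟨c, rfl⟩ := hspan w hw
      rw [map_smul, hχ x hx, smul_comm]
  obtain ⟨q0, hq0, hq0D⟩ := SetLike.not_le_iff_exists.1 hall
  obtain ⟨a0, rfl⟩ := QuotientGroup.mk_surjective q0
  -- split lifts of classes outside `D` are impossible
  have hsplit : ∀ x : ↥S.M, (QuotientGroup.mk x : S.N) ∈ S.pairing.perp D →
      (x : (Module.End K V)ˣ) ^ S.r = 1 → (QuotientGroup.mk x : S.N) ∈ D := by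
    intro x hx hxr
    obtain ⟨w, hw, hw0, h⟩ := S.exists_eigen hxr W (hWinv x hx) fun h => hu0 ((Submodule.eq_bot_iff W).1 h u0 hu0W)
    exact hfpf x w hw hw0 h
  have hns : ¬ S.Split := by
    intro hs
    obtain ⟨b, hb, hbr⟩ := S.split_lift hG hs a0
    exact hq0D (hb ▸ hsplit b (hb.symm ▸ hq0) hbr)
  unfold Split at hns
  push Not at hns
  obtain ⟨h2, hns⟩ := hns
  have hrr : S.rr = 4 := if_pos h2
  -- squares of lifts
  have hsq : ∀ x : ↥S.M, (QuotientGroup.mk x : S.N) ∈ S.pairing.perp D → (QuotientGroup.mk x : S.N) ∉ D →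
      (x : (Module.End K V)ˣ) ^ S.rr = 1 → (x : (Module.End K V)ˣ) ^ 2 = scalarU K V (-1) := by
    intro x hx hxD h4
    obtain ⟨c, hc⟩ := S.pow_mem x x.2
    rw [h2] at hc
    have hc2 : c ^ 2 = 1 := scalarU_injective (V := V) (by
      rw [map_pow, map_one, hc, ← pow_mul, ← h4, hrr])
    have hv : (c : K) ^ 2 = 1 := by rw [← Units.val_pow_eq_pow_val, hc2, Units.val_one]
    rcases sq_eq_one_iff.1 hv with h | h
    · exact absurd (hsplit x hx (by rw [h2, ← hc, Units.ext (h.trans Units.val_one.symm), map_one])) hxD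
    · rw [← hc]; congr 1; exact Units.ext (by rw [h]; simp)
  obtain ⟨a, ha, ha4⟩ := S.exists_lift hG a0
  have haP : (QuotientGroup.mk a : S.N) ∈ S.pairing.perp D := ha.symm ▸ hq0
  have haD : (QuotientGroup.mk a : S.N) ∉ D := ha.symm ▸ hq0D
  have haa : ∀ v : V, (S.op a) ((S.op a) v) = -v := by
    intro v
    have h := DFunLike.congr_fun (congrArg Units.val (hsq a haP haD ha4)) v
    rw [pow_two, Units.val_mul, Module.End.mul_apply, scalarU_apply] at h
    rw [h]; simp
  -- classes commuting with `a`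
  have hcomA : ∀ q ∈ S.pairing.perp D, S.pairing.β (QuotientGroup.mk a) q = 1 →
      q ∈ D ∨ QuotientGroup.mk a * q ∈ D := by
    intro q hq hqa
    obtain ⟨b0, rfl⟩ := QuotientGroup.mk_surjective q
    obtain ⟨b, hb, hb4⟩ := S.exists_lift hG b0
    rw [← hb] at hq hqa ⊢
    by_cases hbD : (QuotientGroup.mk b : S.N) ∈ D
    · exact Or.inl hbD
    right
    rw [pairing_mk] at hqa
    rw [← QuotientGroup.mk_mul]
    refine hsplit _ (by rw [QuotientGroup.mk_mul]; exact mul_mem haP hq) ?_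
    rw [h2, Subgroup.coe_mul]
    have hcm : Commute (a : (Module.End K V)ˣ) (b : (Module.End K V)ˣ) := by
      have := S.β_spec a b
      rwa [hqa, map_one, one_mul] at this
    rw [hcm.mul_pow, hsq a haP haD ha4, hsq b hq hbD hb4, ← map_mul, neg_one_mul, neg_neg, map_one]
  -- the vector
  have hval : ∀ q : S.N, S.pairing.β (QuotientGroup.mk a) q = 1 ∨
      S.pairing.β (QuotientGroup.mk a) q = -1 := by
    intro q
    obtain ⟨b, rfl⟩ := QuotientGroup.mk_surjective q
    rw [pairing_mk]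
    have hv : (S.β a b : K) ^ 2 = 1 := by
      rw [← Units.val_pow_eq_pow_val, ← h2, S.β_pow_r, Units.val_one]
    rcases sq_eq_one_iff.1 hv with h | h
    · exact Or.inl (Units.ext h)
    · exact Or.inr (Units.ext h)
  obtain ⟨w, hwW, hw0, hwinv⟩ : ∃ w ∈ W, w ≠ 0 ∧ ∀ x : ↥S.M,
      (QuotientGroup.mk x : S.N) ∈ S.pairing.perp D →
        (S.op x) w ∈ Submodule.span K {w, (S.op a) w} := by
    -- elements commuting with `a` preserve the span of any vector of `W`
    have hA : ∀ w ∈ W, w ≠ 0 → ∀ x : ↥S.M, (QuotientGroup.mk x : S.N) ∈ S.pairing.perp D →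
        S.β a x = 1 → (S.op x) w ∈ Submodule.span K {w, (S.op a) w} := by
      intro w hw hw0 x hx hax
      rcases hcomA _ hx hax with h | h
      · rw [hw x h]
        exact Submodule.smul_mem _ _ (Submodule.subset_span (Set.mem_insert _ _))
      · rw [← QuotientGroup.mk_mul] at h
        have h' := hw (a * x) h
        rw [S.op_mul, Module.End.mul_apply] at h'
        have h'' := congrArg (fun v => (S.op a) v) h'
        rw [haa, map_smul] at h''
        rw [neg_eq_iff_eq_neg.1 h'']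
        exact Submodule.neg_mem _ (Submodule.smul_mem _ _
          (Submodule.subset_span (Set.mem_insert_of_mem _ rfl)))
    by_cases hb : ∀ x : ↥S.M, (QuotientGroup.mk x : S.N) ∈ S.pairing.perp D → S.β a x = 1
    · exact ⟨u0, hu0W, hu0, fun x hx => hA u0 hu0W hu0 x hx (hb x hx)⟩
    push Not at hb
    obtain ⟨b0, hb0, hb0a⟩ := hb
    obtain ⟨b, hbq, hb4⟩ := S.exists_lift hG b0
    have hbP : (QuotientGroup.mk b : S.N) ∈ S.pairing.perp D := hbq.symm ▸ hb0
    have hba : S.β a b = -1 := by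
      rcases hval (QuotientGroup.mk b) with h | h <;> rw [pairing_mk] at h
      · refine absurd ?_ hb0a
        rw [← S.pairing_mk, ← hbq, S.pairing_mk, h]
      · exact h
    have hbD : (QuotientGroup.mk b : S.N) ∉ D := fun h => by
      have h1 : S.β a b = 1 := haP _ h
      rw [hba] at h1
      have h2' : ((-1 : Kˣ) : K) = 1 := by rw [h1]; rfl
      exact hns ⟨1, by simpa using h2'⟩
    have hbb : ∀ v : V, (S.op b) ((S.op b) v) = -v := by
      intro v
      have h := DFunLike.congr_fun (congrArg Units.val (hsq b hbP hbD hb4)) v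
      rw [pow_two, Units.val_mul, Module.End.mul_apply, scalarU_apply] at h
      rw [h]; simp
    have hab : ∀ v : V, (S.op a) ((S.op b) v) =
        -((S.op b) ((S.op a) v)) := by
      intro v
      have h := DFunLike.congr_fun (congrArg Units.val (S.β_spec a b)) v
      rw [hba, Units.val_mul, Module.End.mul_apply, Units.val_mul, Module.End.mul_apply,
        scalarU_apply, Units.val_mul, Module.End.mul_apply] at h
      rw [h]; simp
    obtain ⟨α, γ, hαγ⟩ := exists_sum_sq K
    have hγ : γ ≠ 0 := by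
      rintro rfl
      exact hns ⟨α, by rw [← hαγ]; ring⟩
    let J : Module.End K V := α • (S.op a) + γ • (S.op b)
    have hJJ : ∀ v, J (J v) = v := by
      intro v
      simp only [J, LinearMap.add_apply, LinearMap.smul_apply, map_add, map_smul, smul_add, smul_smul,
        haa, hbb, hab v]
      calc _ = -((α ^ 2 + γ ^ 2) • v) := by
            simp only [smul_neg, add_smul, sq]
            rw [mul_comm γ α]; abel
        _ = v := by rw [hαγ, neg_smul, one_smul, neg_neg]
    obtain ⟨w, hw, hw0, ε, hJw⟩ : ∃ w ∈ W, w ≠ 0 ∧ ∃ ε : K, J w = ε • w := by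
      have hJu : J u0 ∈ W := W.add_mem (W.smul_mem _ (hWinv a haP u0 hu0W)) (W.smul_mem _ (hWinv b hbP u0 hu0W))
      by_cases hz : u0 + J u0 = 0
      · exact ⟨u0, hu0W, hu0, -1, by rw [neg_one_smul]; exact eq_neg_of_add_eq_zero_right hz⟩
      · exact ⟨u0 + J u0, W.add_mem hu0W hJu, hz, 1, by rw [map_add, hJJ, one_smul, add_comm]⟩
    refine ⟨w, hw, hw0, fun x hx => ?_⟩
    set T := Submodule.span K {w, (S.op a) w} with hT
    have hw1 : w ∈ T := Submodule.subset_span (Set.mem_insert _ _)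
    have hw2 : (S.op a) w ∈ T := Submodule.subset_span (Set.mem_insert_of_mem _ rfl)
    have hbw : (S.op b) w ∈ T := by
      have h : γ • (S.op b) w = ε • w - α • (S.op a) w := by
        rw [← hJw]; simp [J]
      rw [← inv_smul_smul₀ hγ ((S.op b) w), h]
      exact T.smul_mem _ (T.sub_mem (T.smul_mem _ hw1) (T.smul_mem _ hw2))
    have hbT : ∀ v ∈ T, (S.op b) v ∈ T := by
      intro v hv
      obtain ⟨s, t, rfl⟩ := Submodule.mem_span_pair.1 hv
      rw [map_add, map_smul, map_smul]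
      refine T.add_mem (T.smul_mem _ hbw) (T.smul_mem _ ?_)
      obtain ⟨s', t', hst⟩ := Submodule.mem_span_pair.1 hbw
      have hh : (S.op b) ((S.op a) w) = -((S.op a) ((S.op b) w)) := by
        rw [hab, neg_neg]
      rw [hh, ← hst, map_add, map_smul, map_smul, haa]
      exact T.neg_mem (T.add_mem (T.smul_mem _ hw2) (T.smul_mem _ (T.neg_mem hw1)))
    rcases hval (QuotientGroup.mk x) with h | h <;> rw [pairing_mk] at h
    · exact hA w hw hw0 x hx h
    · have hbx : S.β a (b * x) = 1 := by rw [S.β_mul_right, hba, h, neg_one_mul, neg_neg]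
      have h' := hA w hw hw0 (b * x) (by rw [QuotientGroup.mk_mul]; exact mul_mem hbP hx) hbx
      rw [S.op_mul, Module.End.mul_apply] at h'
      have h'' := hbT _ h'
      rw [hbb] at h''
      exact (Submodule.neg_mem_iff _).1 h''
  have hTW : Submodule.span K {w, (S.op a) w} ≤ W := Submodule.span_le.2 (by
    rintro v (rfl | rfl)
    · exact hwW
    · exact hWinv a haP w hwW)
  have hidx : D.relIndex (S.pairing.perp D) ≤ 4 := by
    let ψ : ↥(S.pairing.perp D) →* Kˣ := (S.pairing.β (QuotientGroup.mk a)).comp (S.pairing.perp D).subtype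
    have hsub : ψ.ker ≤ (D ⊔ Subgroup.zpowers (QuotientGroup.mk a : S.N)).subgroupOf (S.pairing.perp D) := by
      intro q hq
      rcases hcomA q.1 q.2 hq with h | h
      · exact Subgroup.mem_sup_left h
      · show q.1 ∈ D ⊔ Subgroup.zpowers (QuotientGroup.mk a : S.N)
        have := mul_mem (Subgroup.mem_sup_right (inv_mem (Subgroup.mem_zpowers (QuotientGroup.mk a : S.N))))
          (Subgroup.mem_sup_left (T := Subgroup.zpowers (QuotientGroup.mk a : S.N)) h)
        rwa [inv_mul_cancel_left] at this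
    have h1 : (D ⊔ Subgroup.zpowers (QuotientGroup.mk a : S.N)).relIndex (S.pairing.perp D) ≤ 2 := by
      refine le_trans (Nat.le_of_dvd (Nat.pos_of_ne_zero Subgroup.index_ne_zero_of_finite)
        (Subgroup.index_dvd_of_le hsub)) ?_
      rw [Subgroup.index_ker]
      calc Nat.card ↥ψ.range ≤ Nat.card ↥({1, -1} : Set Kˣ) := Nat.card_mono (Set.toFinite _) (by
            rintro _ ⟨q, rfl⟩
            rcases hval q.1 with h | h
            · exact Or.inl h
            · exact Or.inr h)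
        _ ≤ 2 := by
            rw [Nat.card_coe_set_eq]; exact (Set.ncard_insert_le _ _).trans (by simp)
    have h2 : D.relIndex (D ⊔ Subgroup.zpowers (QuotientGroup.mk a : S.N)) ≤ 2 := by
      rw [sup_comm, Subgroup.relIndex_sup_right]
      have hcard : Nat.card ↥(Subgroup.zpowers (QuotientGroup.mk a : S.N)) ≤ 2 := by
        rw [Nat.card_zpowers]
        exact Nat.le_of_dvd two_pos (orderOf_dvd_of_pow_eq_one (by rw [← h2]; exact S.pow_r _))
      refine le_trans (Nat.le_of_dvd Nat.card_pos ?_) hcard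
      exact Subgroup.relIndex_dvd_card D _
    rw [← Subgroup.relIndex_mul_relIndex D (D ⊔ Subgroup.zpowers (QuotientGroup.mk a : S.N))
      (S.pairing.perp D) le_sup_left (sup_le hperp (Subgroup.zpowers_le.2 haP))]
    calc _ ≤ 2 * 2 := Nat.mul_le_mul h2 h1
      _ = 4 := rfl
  refine ⟨⟨w, a, D, hw0, hmemD w hwW hw0, fun x hx v hv => ?_,
    fun x hx => ⟨χ x hx, fun v hv => hTW hv x hx⟩,
    fun x _ v hv hv0 h => hfpf x v (hTW hv) hv0 h, Or.inr ⟨h2, hns, haP, haD, hidx⟩⟩⟩
  obtain ⟨s, t, rfl⟩ := Submodule.mem_span_pair.1 hv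
  rw [map_add, map_smul, map_smul]
  refine Submodule.add_mem _ (Submodule.smul_mem _ _ (hwinv x hx)) (Submodule.smul_mem _ _ ?_)
  have hxa := hwinv (x * a) (by rw [QuotientGroup.mk_mul]; exact mul_mem hx haP)
  rwa [S.op_mul, Module.End.mul_apply] at hxa

end Sect

end H27.Base2
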