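import Cfsg.Agent.H27.Base2.Sect

/-!
Lifts of small order of the elements of the section.
-/

set_option autoImplicit false
set_option linter.style.haveILetI false
set_option linter.unusedSectionVars false

namespace H27.Base2

open Module

variable {K V : Type} [Field K] [Finite K] [AddCommGroup V] [Module K V] [Finite V]

theorem natCast_ne_zero_of_dvd_sub_one {r : ℕ} (h : r ∣ Nat.card K - 1) : (r : K) ≠ 0 := by
  intro h0
  haveI := Fintype.ofFinite K
  obtain ⟨k, hk⟩ := h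
  have h1 : ((Nat.card K - 1 : ℕ) : K) = 0 := by rw [hk, Nat.cast_mul, h0, zero_mul]
  rw [Nat.cast_sub Finite.card_pos, Nat.card_eq_fintype_card, FiniteField.cast_card_eq_zero,
    Nat.cast_one, zero_sub, neg_eq_zero] at h1
  exact one_ne_zero h1

theorem exists_square_or_neg_square (hns : ¬ IsSquare (-1 : K)) (c : Kˣ) :
    ∃ d : Kˣ, c = d ^ 2 ∨ c = -(d ^ 2) := by
  obtain ⟨ζ, hζ⟩ := IsCyclic.exists_generator (α := Kˣ)
  obtain ⟨i, hi⟩ := Subgroup.mem_zpowers_iff.1 (hζ c)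
  obtain ⟨j, hj⟩ := Subgroup.mem_zpowers_iff.1 (hζ (-1 : Kˣ))
  rcases Int.even_or_odd i with ⟨a, ha⟩ | hiodd
  · exact ⟨ζ ^ a, Or.inl (by rw [← hi, ha, ← zpow_natCast, ← zpow_mul]; congr 1; push_cast; ring)⟩
  rcases Int.even_or_odd j with ⟨a, ha⟩ | hjodd
  · refine absurd ⟨((ζ ^ a : Kˣ) : K), ?_⟩ hns
    have : (-1 : Kˣ) = ζ ^ a * ζ ^ a := by rw [← hj, ha, zpow_add]
    simpa using congrArg Units.val this
  obtain ⟨a, ha⟩ : Even (i + j) := hiodd.add_odd hjodd
  refine ⟨ζ ^ a, Or.inr ?_⟩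
  have h : ζ ^ (i + j) = (ζ ^ a) ^ 2 := by rw [ha, zpow_add, sq]
  rw [zpow_add, hi, hj, mul_neg_one] at h
  rw [← h, neg_neg]

namespace Sect

variable [Nontrivial V] {G : Subgroup (Module.End K V)ˣ} (S : Sect G)

theorem r_ne_zero : (S.r : K) ≠ 0 := natCast_ne_zero_of_dvd_sub_one S.r_dvd

/-- All elements of the section have lifts of order dividing `r`. -/
def Split : Prop := S.r ≠ 2 ∨ IsSquare (-1 : K)

/-- The exponent of the group of lifts. -/
def rr : ℕ := if S.r = 2 then 4 else S.r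

theorem r_dvd_rr : S.r ∣ S.rr := by
  unfold rr; split_ifs with h
  · rw [h]; norm_num
  · exact dvd_rfl

theorem rr_pos : 0 < S.rr := Nat.pos_of_dvd_of_pos (dvd_refl _) (by
  unfold rr; split_ifs
  · norm_num
  · exact S.prime.pos)

theorem β_pow_choose (a b : ↥S.M) : S.β a b ^ S.rr.choose 2 = 1 := by
  unfold rr; split_ifs with h
  · have h2 := S.β_pow_r a b
    rw [h] at h2
    rw [show Nat.choose 4 2 = 2 * 3 from rfl, pow_mul, h2, one_pow]
  · obtain ⟨k, hk⟩ := S.prime.dvd_choose_self two_ne_zero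
      (lt_of_le_of_ne S.prime.two_le (Ne.symm h))
    rw [hk, pow_mul, S.β_pow_r, one_pow]

theorem lift_mul {a b : ↥S.M} (ha : (a : (Module.End K V)ˣ) ^ S.rr = 1)
    (hb : (b : (Module.End K V)ˣ) ^ S.rr = 1) :
    ((a * b : ↥S.M) : (Module.End K V)ˣ) ^ S.rr = 1 := by
  rw [Subgroup.coe_mul, S.β_mul_pow, ha, hb, S.β_pow_choose, map_one, one_mul, one_mul]

theorem mk_mul_scalar (a : ↥S.M) (c : Kˣ) :
    (QuotientGroup.mk (a * ⟨scalarU K V c, S.scal ⟨c, rfl⟩⟩) : S.N) = QuotientGroup.mk a := by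
  have h : (QuotientGroup.mk (⟨scalarU K V c, S.scal ⟨c, rfl⟩⟩ : ↥S.M) : S.N) = 1 :=
    (QuotientGroup.eq_one_iff _).2 (S.mem_Z.2 ⟨c, rfl⟩)
  rw [QuotientGroup.mk_mul, h, mul_one]

theorem split_lift (hG : LinSetup G) (hs : S.Split) (a : ↥S.M) :
    ∃ b : ↥S.M, (QuotientGroup.mk b : S.N) = QuotientGroup.mk a ∧
      (b : (Module.End K V)ˣ) ^ S.r = 1 := by
  classical
  haveI := Fact.mk S.prime
  suffices key : ∀ x ∈ S.M, ∃ c : Kˣ, x ^ S.r = scalarU K V (c ^ S.r) by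
    obtain ⟨c, hc⟩ := key a a.2
    refine ⟨a * ⟨scalarU K V c⁻¹, S.scal ⟨c⁻¹, rfl⟩⟩, S.mk_mul_scalar a c⁻¹, ?_⟩
    have hcm : Commute (a : (Module.End K V)ˣ) (scalarU K V c⁻¹) := (scalarU_comm c⁻¹ _).symm
    rw [Subgroup.coe_mul, hcm.mul_pow, hc, ← map_pow, ← map_mul, ← mul_pow, mul_inv_cancel,
      one_pow, map_one]
  have hβ : ∀ x y : ↥S.M, ∃ c : Kˣ, S.β x y ^ S.r.choose 2 = c ^ S.r := by
    intro x y
    by_cases h2 : S.r = 2
    · have hsq := S.β_pow_r x y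
      rw [h2] at hsq ⊢
      rcases hs with h | h
      · exact absurd h2 h
      obtain ⟨t, ht⟩ := h
      have hv : (S.β x y : K) ^ 2 = 1 := by
        rw [← Units.val_pow_eq_pow_val, hsq, Units.val_one]
      rw [Nat.choose_self, pow_one]
      rcases sq_eq_one_iff.1 hv with h1 | h1
      · exact ⟨1, Units.ext (by rw [h1]; simp)⟩
      · have ht0 : t ≠ 0 := fun h0 => by
          rw [h0, mul_zero] at ht; exact one_ne_zero (neg_eq_zero.1 ht)
        exact ⟨Units.mk0 t ht0, Units.ext (by rw [h1, Units.val_pow_eq_pow_val, Units.val_mk0, sq]; exact ht)⟩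
    · obtain ⟨k, hk⟩ := S.prime.dvd_choose_self two_ne_zero
        (lt_of_le_of_ne S.prime.two_le (Ne.symm h2))
      exact ⟨1, by rw [hk, pow_mul, S.β_pow_r, one_pow, one_pow]⟩
  let H : Subgroup (Module.End K V)ˣ :=
    { carrier := {x | x ∈ S.M ∧ ∃ c : Kˣ, x ^ S.r = scalarU K V (c ^ S.r)}
      one_mem' := ⟨S.M.one_mem, 1, by rw [one_pow, one_pow, map_one]⟩
      mul_mem' := by
        rintro x y ⟨hx, c, hc⟩ ⟨hy, e, he⟩
        refine ⟨S.M.mul_mem hx hy, ?_⟩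
        obtain ⟨s, hs'⟩ := hβ ⟨y, hy⟩ ⟨x, hx⟩
        exact ⟨s * (c * e), by
          rw [S.β_mul_pow ⟨x, hx⟩ ⟨y, hy⟩, hs', hc, he, ← map_mul, ← map_mul, mul_pow, mul_pow]⟩
      inv_mem' := by
        rintro x ⟨hx, c, hc⟩
        exact ⟨S.M.inv_mem hx, c⁻¹, by rw [inv_pow, hc, inv_pow, map_inv]⟩ }
  rcases S.minimal H (by
      rintro _ ⟨c, rfl⟩; exact ⟨S.scal ⟨c, rfl⟩, c, (map_pow _ _ _).symm⟩) (fun x hx => hx.1) (by
      rintro g hg x ⟨hx, c, hc⟩
      refine ⟨S.norm g hg x hx, c, ?_⟩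
      rw [conj_pow, hc, ← scalarU_comm, mul_assoc, mul_inv_cancel, mul_one]) with hH | hH
  swap
  · exact fun x hx => (hH.ge hx).2
  exfalso
  -- otherwise the section is too small
  let P : Kˣ →* Kˣ := powMonoidHom S.r
  have hex : ∀ x : ↥S.M, ∃ c : Kˣ, (x : (Module.End K V)ˣ) ^ S.r = scalarU K V c := fun x => by
    obtain ⟨c, hc⟩ := S.pow_mem x x.2; exact ⟨c, hc.symm⟩
  choose f hf using hex
  have hmul : ∀ x y : ↥S.M, (QuotientGroup.mk (f (x * y)) : Kˣ ⧸ P.range) =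
      QuotientGroup.mk (f x) * QuotientGroup.mk (f y) := by
    intro x y
    obtain ⟨s, hs'⟩ := hβ y x
    have h := hf (x * y)
    rw [Subgroup.coe_mul, S.β_mul_pow, hf x, hf y, hs', ← map_mul, ← map_mul] at h
    rw [← scalarU_injective h, QuotientGroup.mk_mul, QuotientGroup.mk_mul,
      (QuotientGroup.eq_one_iff (s ^ S.r)).2 (MonoidHom.mem_range.2 ⟨s, rfl⟩), one_mul]
  let F : ↥S.M →* Kˣ ⧸ P.range := MonoidHom.mk' (fun x => QuotientGroup.mk (f x)) hmul
  have hFker : F.ker = S.Z := by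
    ext x
    constructor
    · intro hx
      obtain ⟨c, hc⟩ := (QuotientGroup.eq_one_iff (f x)).1 hx
      exact hH.le ⟨x.2, c, by show (x : (Module.End K V)ˣ) ^ S.r = _; rw [hf x, ← hc]; rfl⟩
    · intro hx
      obtain ⟨-, c, hc⟩ := hH.ge hx
      refine (QuotientGroup.eq_one_iff (f x)).2 ⟨c, scalarU_injective (V := V) ?_⟩
      rw [← hf x]; exact hc.symm
  have hle : Nat.card S.N ≤ S.r := by
    have h1 : Nat.card S.N = Nat.card ↥F.range := by
      show (S.Z).index = _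
      rw [← hFker, Subgroup.index_ker]
    have h2 : P.range.index = Nat.card ↥P.ker := by
      have e1 := P.range.index_mul_card
      have e2 := P.ker.index_mul_card
      rw [Subgroup.index_ker] at e2
      rw [← e2, mul_comm (Nat.card ↥P.range)] at e1
      exact Nat.eq_of_mul_eq_mul_right Nat.card_pos e1
    have h3 : Nat.card ↥P.ker ≤ S.r := by
      haveI : NeZero S.r := ⟨S.prime.ne_zero⟩
      refine le_trans (le_of_eq ?_) (card_rootsOfUnity K S.r)
      rfl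
    exact h1.le.trans ((Subgroup.card_le_card_group _).trans (h2.le.trans h3))
  obtain ⟨e, he, hre⟩ := S.exists_card
  haveI := S.nontrivial_N
  have he0 : 0 < e := by
    rcases Nat.eq_zero_or_pos e with h | h
    · subst h; have := Nat.card_pos (α := S.N); rw [he] at this; simp at this
    · exact h
  have h4 : S.r ^ 2 ≤ S.r := (Nat.pow_le_pow_left (Nat.le_of_dvd he0 hre) 2).trans (he ▸ hle)
  have := S.prime.two_le
  nlinarith

theorem exists_lift (hG : LinSetup G) (a : ↥S.M) :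
    ∃ b : ↥S.M, (QuotientGroup.mk b : S.N) = QuotientGroup.mk a ∧
      (b : (Module.End K V)ˣ) ^ S.rr = 1 := by
  by_cases hs : S.Split
  · obtain ⟨b, h1, h2⟩ := S.split_lift hG hs a
    obtain ⟨k, hk⟩ := S.r_dvd_rr
    exact ⟨b, h1, by rw [hk, pow_mul, h2, one_pow]⟩
  unfold Split at hs
  push Not at hs
  obtain ⟨h2, hns⟩ := hs
  have hrr : S.rr = 4 := if_pos h2
  obtain ⟨c, hc⟩ := S.pow_mem a a.2
  obtain ⟨d, hd⟩ := exists_square_or_neg_square hns c
  refine ⟨a * ⟨scalarU K V d⁻¹, S.scal ⟨d⁻¹, rfl⟩⟩, S.mk_mul_scalar a d⁻¹, ?_⟩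
  have hcm : Commute (a : (Module.End K V)ˣ) (scalarU K V d⁻¹) := (scalarU_comm d⁻¹ _).symm
  rw [h2] at hc
  rw [hrr, Subgroup.coe_mul, show 4 = 2 * 2 from rfl, pow_mul, hcm.mul_pow, ← hc, ← map_pow,
    ← map_mul, ← map_pow]
  have hone : (c * d⁻¹ ^ 2) ^ 2 = 1 := by
    rcases hd with rfl | rfl
    · rw [← mul_pow, mul_inv_cancel, one_pow, one_pow]
    · rw [neg_mul, neg_sq, ← mul_pow, mul_inv_cancel, one_pow, one_pow]
  rw [hone, map_one]

/-- Split lifts have eigenvectors in every invariant subspace. -/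
theorem exists_eigen {a : (Module.End K V)ˣ} (ha : a ^ S.r = 1) (W : Submodule K V)
    (hW : ∀ w ∈ W, (a : Module.End K V) w ∈ W) (hne : W ≠ ⊥) :
    ∃ w ∈ W, w ≠ 0 ∧ ∃ c : K, (a : Module.End K V) w = c • w := by
  obtain ⟨ζu, hζ⟩ := S.exists_primitiveRoot
  set ζ : K := (ζu : K) with hζdef
  obtain ⟨v, hv, hv0⟩ := W.ne_bot_iff.1 hne
  set r := S.r
  set A : Module.End K V := (a : Module.End K V)
  have hζr : ζ ^ r = 1 := by rw [hζdef, ← Units.val_pow_eq_pow_val, ← hζ, pow_orderOf_eq_one]; rfl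
  have hAr : A ^ r = 1 := by rw [← Units.val_pow_eq_pow_val, ha]; rfl
  have hprim : IsPrimitiveRoot ζ r := IsPrimitiveRoot.coe_units_iff.2 (hζ ▸ IsPrimitiveRoot.orderOf ζu)
  let w : ℕ → V := fun i => ∑ j ∈ Finset.range r, ζ ^ (i * j) • (A ^ j) v
  have hWpow : ∀ j, (A ^ j) v ∈ W := by
    intro j
    induction j with
    | zero => exact hv
    | succ j ih => rw [pow_succ']; exact hW _ ih
  have hw : ∀ i, A (w i) = (ζ ^ i)⁻¹ • w i := by
    intro i
    have hζi : ζ ^ i ≠ 0 := pow_ne_zero _ (hprim.ne_zero S.prime.ne_zero)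
    rw [eq_inv_smul_iff₀ hζi]
    simp only [w, map_sum, map_smul, Finset.smul_sum, smul_smul]
    have hshift : ∀ j, (ζ ^ i * ζ ^ (i * j)) • A ((A ^ j) v) = ζ ^ (i * (j + 1)) • (A ^ (j + 1)) v :=
      fun j => by rw [← pow_add, pow_succ', mul_add, mul_one, add_comm]; rfl
    rw [Finset.sum_congr rfl fun j _ => hshift j]
    have hlast : ζ ^ (i * r) • (A ^ r) v = ζ ^ (i * 0) • (A ^ 0) v := by
      rw [mul_comm i r, pow_mul, hζr, one_pow, hAr, mul_zero, pow_zero, pow_zero]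
    have h1 := Finset.sum_range_succ' (fun j => ζ ^ (i * j) • (A ^ j) v) r
    have h2 := Finset.sum_range_succ (fun j => ζ ^ (i * j) • (A ^ j) v) r
    rw [h1, hlast] at h2
    exact add_right_cancel h2
  have hsum : ∑ i ∈ Finset.range r, w i = (r : K) • v := by
    simp only [w]
    rw [Finset.sum_comm]
    simp only [← Finset.sum_smul]
    rw [Finset.sum_eq_single 0]
    · simp
    · intro j hj hj0
      rw [Finset.mem_range] at hj
      have h1 : ∑ i ∈ Finset.range r, ζ ^ (i * j) = 0 := by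
        simp only [mul_comm _ j, pow_mul]
        have hne1 : ζ ^ j ≠ 1 := hprim.pow_ne_one_of_pos_of_lt hj0 hj
        rw [geom_sum_eq hne1, ← pow_mul, mul_comm, pow_mul, hζr, one_pow, sub_self, zero_div]
      rw [h1, zero_smul]
    · intro h; exact absurd (Finset.mem_range.2 S.prime.pos) h
  obtain ⟨i, hi⟩ : ∃ i, w i ≠ 0 := by
    by_contra h
    push Not at h
    rw [Finset.sum_eq_zero fun i _ => h i] at hsum
    exact hv0 ((smul_eq_zero.1 hsum.symm).resolve_left S.r_ne_zero)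
  exact ⟨w i, W.sum_mem fun j _ => W.smul_mem _ (hWpow j), hi, (ζ ^ i)⁻¹, hw i⟩

end Sect

end H27.Base2
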