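import Mathlib

/-!
Explicit models of the Pauli operators for the small fields.

`gen false k` are the operators `X_i` (index `2 i`) and `Z_i` (index `2 i + 1`) on
`Fin (2 ^ k) → K`; in the twisted model `gen true k` the pair at `i = 0` is replaced by the
quaternion pair `a = [[0, -1], [1, 0]]`, `b = [[1, 1], [1, -1]]`.
-/

set_option autoImplicit false

namespace H27.Base2

variable (K : Type) [CommRing K]

/-- The position with the `i`-th bit changed. -/
def flipBit {k : ℕ} (i : ℕ) (hi : i < k) (b : Fin (2 ^ k)) : Fin (2 ^ k) :=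
  ⟨(b : ℕ) ^^^ 2 ^ i, Nat.xor_lt_two_pow b.2 (Nat.pow_lt_pow_right one_lt_two hi)⟩

/-- The values of the generators. -/
def genFun (twisted : Bool) (k : ℕ) (j : Fin (2 * k)) (v : Fin (2 ^ k) → K) (b : Fin (2 ^ k)) : K :=
  let w := v (flipBit ((j : ℕ) / 2) (Nat.div_lt_of_lt_mul j.2) b)
  let s := Nat.testBit b ((j : ℕ) / 2)
  if (j : ℕ) % 2 = 0 then
    if twisted && (j : ℕ) / 2 == 0 then (if s then w else -w) else w
  else
    if twisted && (j : ℕ) / 2 == 0 then (if s then w - v b else v b + w)
    else (if s then -v b else v b)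

/-- The generators as linear maps. -/
def gen (twisted : Bool) (k : ℕ) (j : Fin (2 * k)) : Module.End K (Fin (2 ^ k) → K) where
  toFun := genFun K twisted k j
  map_add' v w := funext fun b => by
    simp only [genFun, Pi.add_apply]; split_ifs <;> ring
  map_smul' c v := funext fun b => by
    simp only [genFun, Pi.smul_apply, smul_eq_mul, RingHom.id_apply]; split_ifs <;> ring

/-- The product, in increasing order, of the generators selected by the bits of `n`. -/
def word (twisted : Bool) (k : ℕ) (n : Fin (2 ^ (2 * k))) : Module.End K (Fin (2 ^ k) → K) :=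
  ((List.finRange (2 * k)).map fun (j : Fin (2 * k)) =>
    if Nat.testBit (n : ℕ) (j : ℕ) then gen K twisted k j else 1).prod

/-- Linear maps normalising the Pauli operators up to scalars. -/
def NormModel (twisted : Bool) (k : ℕ) (g : (Module.End K (Fin (2 ^ k) → K))ˣ) : Prop :=
  ∀ j, ∃ (n : Fin (2 ^ (2 * k))) (c : K), (g : Module.End K (Fin (2 ^ k) → K)) * gen K twisted k j =
    c • (word K twisted k n * (g : Module.End K (Fin (2 ^ k) → K)))

end H27.Base2
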