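import Cfsg.Agent.H27.Base2.Trans
import Cfsg.Agent.H27.Base2.ColourDefs

/-!
A second vector from a rigid colouring of the blocks.
-/

set_option autoImplicit false
set_option linter.style.haveILetI false
set_option linter.unusedSectionVars false

namespace H27.Base2

open Module

variable {K V : Type} [Field K] [Finite K] [AddCommGroup V] [Module K V] [Finite V]
variable [Nontrivial V] {G : Subgroup (Module.End K V)ˣ}

namespace Sect

variable (S : Sect G)

/-- Conjugation of a section element by an element of the group. -/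
def cnj {g : (Module.End K V)ˣ} (hg : g ∈ G) (x : ↥S.M) : ↥S.M :=
  ⟨g * x * g⁻¹, S.norm g hg x x.2⟩

theorem cnj_mul {g : (Module.End K V)ˣ} (hg : g ∈ G) (x y : ↥S.M) :
    S.cnj hg (x * y) = S.cnj hg x * S.cnj hg y :=
  Subtype.ext (by show g * ((x : (Module.End K V)ˣ) * y) * g⁻¹ = g * x * g⁻¹ * (g * y * g⁻¹); group)

theorem cnj_one {g : (Module.End K V)ˣ} (hg : g ∈ G) : S.cnj hg 1 = 1 :=
  Subtype.ext (by show g * 1 * g⁻¹ = 1; group)

theorem cnj_inv' {g : (Module.End K V)ˣ} (hg : g ∈ G) (x : ↥S.M) :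
    S.cnj (G.inv_mem hg) (S.cnj hg x) = x :=
  Subtype.ext (by show g⁻¹ * (g * x * g⁻¹) * g⁻¹⁻¹ = x; group)

theorem cnj_inv {g : (Module.End K V)ˣ} (hg : g ∈ G) (x : ↥S.M) :
    S.cnj hg (S.cnj (G.inv_mem hg) x) = x :=
  Subtype.ext (by show g * (g⁻¹ * x * g⁻¹⁻¹) * g⁻¹ = x; group)

theorem β_cnj {g : (Module.End K V)ˣ} (hg : g ∈ G) (x y : ↥S.M) :
    S.β (S.cnj hg x) (S.cnj hg y) = S.β x y := by
  refine S.β_unique _ _ ?_
  show g * x * g⁻¹ * (g * y * g⁻¹) = scalarU K V (S.β x y) * (g * y * g⁻¹ * (g * x * g⁻¹))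
  calc g * x * g⁻¹ * (g * y * g⁻¹) = g * ((x : (Module.End K V)ˣ) * y) * g⁻¹ := by group
    _ = g * (scalarU K V (S.β x y) * ((y : (Module.End K V)ˣ) * x)) * g⁻¹ := by rw [S.β_spec]
    _ = scalarU K V (S.β x y) * (g * ((y : (Module.End K V)ˣ) * x) * g⁻¹) := by
        rw [← mul_assoc, ← scalarU_comm]; simp only [mul_assoc]
    _ = _ := by group

theorem op_cnj {g : (Module.End K V)ˣ} (hg : g ∈ G) (x : ↥S.M) (w : V) :
    (g : Module.End K V) (S.op x w) = S.op (S.cnj hg x) ((g : Module.End K V) w) := by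
  show _ = ((g * x * g⁻¹ : (Module.End K V)ˣ) : Module.End K V) ((g : Module.End K V) w)
  rw [← Module.End.mul_apply, ← Units.val_mul, ← Module.End.mul_apply, ← Units.val_mul,
    inv_mul_cancel_right]

namespace MFrame

variable {S} (F : S.MFrame)

/-- The elements of the group fixing the vector. -/
def Fixes (g : (Module.End K V)ˣ) : Prop := g ∈ G ∧ (g : Module.End K V) F.u = F.u

theorem Fixes.inv {g : (Module.End K V)ˣ} (hg : F.Fixes g) : F.Fixes g⁻¹ := by
  refine ⟨G.inv_mem hg.1, ?_⟩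
  conv_lhs => rw [← hg.2]
  rw [← Module.End.mul_apply, ← Units.val_mul, inv_mul_cancel]; rfl

theorem cnj_mem_D {g : (Module.End K V)ˣ} (hg : F.Fixes g) {x : ↥S.M}
    (hx : (QuotientGroup.mk x : S.N) ∈ F.D) : (QuotientGroup.mk (S.cnj hg.1 x) : S.N) ∈ F.D := by
  obtain ⟨c, hc⟩ := (F.mem_D x).1 hx
  obtain ⟨hgG, hgu⟩ := hg
  have h := S.op_cnj hgG x F.u
  rw [hc, map_smul, hgu] at h
  exact (F.mem_D _).2 ⟨c, h.symm⟩

theorem cnj_mem_perp {g : (Module.End K V)ˣ} (hg : F.Fixes g) {x : ↥S.M}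
    (hx : (QuotientGroup.mk x : S.N) ∈ S.pairing.perp F.D) :
    (QuotientGroup.mk (S.cnj hg.1 x) : S.N) ∈ S.pairing.perp F.D := by
  intro q hq
  obtain ⟨y, rfl⟩ := QuotientGroup.mk_surjective q
  rw [pairing_mk, ← S.cnj_inv hg.1 y, S.β_cnj hg.1]
  exact hx _ (F.cnj_mem_D (hg.inv F) hq)

theorem cls_cnj_eq {g : (Module.End K V)ˣ} (hg : F.Fixes g) {x y : ↥S.M} (h : F.cls x = F.cls y) :
    F.cls (S.cnj hg.1 x) = F.cls (S.cnj hg.1 y) := by
  have h1 : F.cls (x⁻¹ * y) = 1 := by rw [F.cls_mul, F.cls_inv, h, inv_mul_cancel]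
  have h2 : F.cls (S.cnj hg.1 (x⁻¹ * y)) = 1 :=
    F.cls_eq_one.2 (F.cnj_mem_perp hg (F.cls_eq_one.1 h1))
  have h3 : S.cnj hg.1 y = S.cnj hg.1 x * S.cnj hg.1 (x⁻¹ * y) := by
    rw [← S.cnj_mul, mul_inv_cancel_left]
  rw [h3, F.cls_mul, h2, mul_one]

variable (hG : LinSetup G)

/-- The permutation of the blocks induced by an element fixing the vector. -/
noncomputable def perm {g : (Module.End K V)ˣ} (hg : F.Fixes g) : F.U ≃* F.U where
  toFun q := F.cls (S.cnj hg.1 (F.t hG q))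
  invFun q := F.cls (S.cnj (hg.inv F).1 (F.t hG q))
  left_inv q := by
    dsimp only
    rw [F.cls_cnj_eq (hg.inv F) (F.cls_t hG _), S.cnj_inv' hg.1, F.cls_t hG]
  right_inv q := by
    dsimp only
    rw [F.cls_cnj_eq hg (F.cls_t hG _), S.cnj_inv hg.1, F.cls_t hG]
  map_mul' p q := by
    rw [← F.cls_mul, ← S.cnj_mul]
    exact F.cls_cnj_eq hg (by rw [F.cls_mul, F.cls_t, F.cls_t, F.cls_t])

theorem perm_cls {g : (Module.End K V)ˣ} (hg : F.Fixes g) (x : ↥S.M) :
    F.perm hG hg (F.cls x) = F.cls (S.cnj hg.1 x) :=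
  F.cls_cnj_eq hg (F.cls_t hG _)

/-- The permutations of the blocks coming from the stabiliser of the vector. -/
def perms : Set (Additive F.U ≃+ Additive F.U) :=
  {π | ∃ (g : (Module.End K V)ˣ) (hg : F.Fixes g),
    ∀ q, π q = Additive.ofMul (F.perm hG hg (Additive.toMul q))}

/-- The criterion: a rigid colouring whose uncoloured set is small gives a pair. -/
theorem pairFor_of_colouring [Fintype F.U] (htop : LinearMap.range (F.Ψ hG) = ⊤) {C : ℕ}
    (vs : Fin C → V) (hvs : ∀ i, vs i ∈ F.B0) (hvs0 : ∀ i, vs i ≠ 0)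
    (hsep : ∀ (i j : Fin C) (x : ↥S.M), (x : (Module.End K V)ˣ) ^ S.rr = 1 →
      (QuotientGroup.mk x : S.N) ∈ S.pairing.perp F.D → S.op x (vs i) = vs j → i = j)
    (col : Additive F.U → Option (Fin C)) (hrig : RigidOn (F.perms hG) col) (hcl : ClosesUp col) :
    PairFor G := by
  classical
  have hinj := (F.Ψ_spec hG).1
  let v : F.U → ↥F.B0 := fun q => if q = 1 then ⟨S.op F.a F.u, F.au_mem⟩ else
    (col (Additive.ofMul q)).elim 0 fun i => ⟨vs i, hvs i⟩
  refine ⟨F.u, F.Ψ hG v, fun h hhG hu hy => ?_⟩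
  have hh : F.Fixes h := ⟨hhG, hu⟩
  set π := F.perm hG hh with hπ
  -- the vector stays in its block
  have hstable : ∀ w ∈ F.B0, (h : Module.End K V) w ∈ F.B0 := by
    intro w hw
    obtain ⟨s, r, rfl⟩ := Submodule.mem_span_pair.1 hw
    rw [map_add, map_smul, map_smul, hu, S.op_cnj hhG, hu]
    refine F.B0.add_mem (F.B0.smul_mem _ F.u_mem) (F.B0.smul_mem _ ?_)
    rcases F.shape with ⟨ha, -⟩ | ⟨-, -, haP, -⟩
    · rw [ha, S.cnj_one]; exact F.u_mem
    · exact F.inv _ (F.cnj_mem_perp hh haP) _ F.u_mem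
  let ρ : F.U → ↥S.M := fun q => (F.t hG (π q))⁻¹ * S.cnj hhG (F.t hG q)
  have hρP : ∀ q, (QuotientGroup.mk (ρ q) : S.N) ∈ S.pairing.perp F.D := fun q =>
    F.rel_perp hG rfl
  have hρ4 : ∀ q, ((ρ q : ↥S.M) : (Module.End K V)ˣ) ^ S.rr = 1 := fun q => by
    refine S.lift_mul ?_ ?_
    · rw [Subgroup.coe_inv, inv_pow, F.t_pow, inv_one]
    · show (h * (F.t hG q : ↥S.M) * h⁻¹) ^ S.rr = 1
      rw [conj_pow, F.t_pow, mul_one, mul_inv_cancel]
  have hmove : ∀ q, ∀ w : V, (h : Module.End K V) (S.op (F.t hG q) w) =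
      S.op (F.t hG (π q)) (S.op (ρ q) ((h : Module.End K V) w)) := fun q w => by
    rw [S.op_cnj hhG]
    show _ = (S.op (F.t hG (π q)) * S.op (ρ q)) _
    rw [← S.op_mul, mul_inv_cancel_left]
  let v' : F.U → ↥F.B0 := fun p => ⟨S.op (ρ (π.symm p)) ((h : Module.End K V) (v (π.symm p))),
    F.inv _ (hρP _) _ (hstable _ (v _).2)⟩
  have hv' : F.Ψ hG v' = (h : Module.End K V) (F.Ψ hG v) := by
    rw [Ψ_apply, Ψ_apply, map_sum]
    refine (Fintype.sum_equiv π.toEquiv _ _ fun q => ?_).symm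
    rw [hmove]
    show _ = S.op (F.t hG (π q)) (S.op (ρ (π.symm (π q))) ((h : Module.End K V) (v (π.symm (π q)))))
    rw [MulEquiv.symm_apply_apply]
  have hcomp : ∀ q, S.op (ρ q) ((h : Module.End K V) (v q)) = v (π q) := fun q => by
    have := congrArg Subtype.val (congrFun (hinj (hv'.trans hy)) (π q))
    simpa [v'] using this
  have hπ1 : π 1 = 1 := map_one π
  have hρ1 : ρ 1 = 1 := by
    show (F.t hG (π 1))⁻¹ * S.cnj hhG (F.t hG 1) = 1
    rw [hπ1, F.t_one hG, S.cnj_one, inv_one, one_mul]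
  have hv1 : (v 1 : V) = S.op F.a F.u := by simp [v]
  have hid : ∀ w ∈ F.B0, (h : Module.End K V) w = w := by
    have hau : (h : Module.End K V) (S.op F.a F.u) = S.op F.a F.u := by
      have := hcomp 1
      rw [hπ1, hρ1, S.op_one, Module.End.one_apply, hv1] at this
      exact this
    intro w hw
    obtain ⟨s, r, rfl⟩ := Submodule.mem_span_pair.1 hw
    rw [map_add, map_smul, map_smul, hu, hau]
  have hcomp' : ∀ q, S.op (ρ q) (v q : V) = v (π q) := fun q => by
    rw [← hcomp q, hid _ (v q).2]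
  have hvne : ∀ q, q ≠ 1 → ∀ i, col (Additive.ofMul q) = some i → (v q : V) = vs i := fun q hq i hi => by
    simp [v, hq, hi]
  have hvz : ∀ q, q ≠ 1 → col (Additive.ofMul q) = none → (v q : V) = 0 := fun q hq hi => by
    simp [v, hq, hi]
  -- the colouring is preserved
  have hcol : ∀ q, col (Additive.ofMul (π q)) = col (Additive.ofMul q) := by
    intro q
    by_cases hq : q = 1
    · rw [hq, hπ1]
    have hq' : π q ≠ 1 := fun e => hq (π.injective (e.trans hπ1.symm))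
    rcases hc : col (Additive.ofMul q) with _ | i <;> rcases hc' : col (Additive.ofMul (π q)) with _ | j
    · rfl
    · have := hcomp' q
      rw [hvz q hq hc, hvne _ hq' j hc', map_zero] at this
      exact absurd this.symm (hvs0 j)
    · have := hcomp' q
      rw [hvne q hq i hc, hvz _ hq' hc'] at this
      exact absurd (((Module.End.isUnit_iff _).1 (ρ q : (Module.End K V)ˣ).isUnit).1
        (this.trans (map_zero _).symm)) (hvs0 i)
    · have := hcomp' q
      rw [hvne q hq i hc, hvne _ hq' j hc'] at this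
      rw [hsep i j _ (hρ4 q) (hρP q) this]
  let π' : Additive F.U ≃+ Additive F.U := MulEquiv.toAdditive π
  have hfix : ∀ q, π q = q := fun q =>
    congrArg Additive.toMul (hrig π' ⟨h, hh, fun q => rfl⟩
      (fun q => hcol (Additive.toMul q)) (Additive.ofMul q))
  -- blocks fixed pointwise
  let X : ↥S.M → Prop := fun x => ∀ w ∈ F.B0, (h : Module.End K V) (S.op x w) = S.op x w
  let δ : ↥S.M → ↥S.M := fun x => x⁻¹ * S.cnj hhG x
  have hδP : ∀ x, (QuotientGroup.mk (δ x) : S.N) ∈ S.pairing.perp F.D := fun x => by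
    rw [← F.cls_eq_one, F.cls_mul, F.cls_inv, ← F.perm_cls hG hh, ← hπ, hfix, inv_mul_cancel]
  have hXδ : ∀ x, X x ↔ ∀ w ∈ F.B0, S.op (δ x) w = w := by
    intro x
    have key : ∀ w ∈ F.B0, (h : Module.End K V) (S.op x w) = S.op x (S.op (δ x) w) := fun w hw => by
      rw [S.op_cnj hhG, hid w hw, ← Module.End.mul_apply, ← S.op_mul, mul_inv_cancel_left]
    exact forall₂_congr fun w hw => by
      rw [key w hw]
      exact (((Module.End.isUnit_iff _).1 (x : (Module.End K V)ˣ).isUnit).1).eq_iff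
  have hδmul : ∀ x y, ∀ w ∈ F.B0, S.op (δ (x * y)) w =
      (S.β (δ x) y : K) • S.op (δ x) (S.op (δ y) w) := by
    intro x y w _
    have h1 : δ (x * y) = y⁻¹ * (δ x * y) * (y⁻¹ * S.cnj hhG y) := by
      simp only [δ, S.cnj_mul, mul_inv_rev]; group
    have h2 : ((δ (x * y) : ↥S.M) : (Module.End K V)ˣ) =
        scalarU K V (S.β (δ x) y) * ((δ x : ↥S.M) * (δ y : ↥S.M) : ↥S.M) := by
      rw [h1]
      simp only [Subgroup.coe_mul, Subgroup.coe_inv]
      rw [S.β_spec (δ x) y, ← mul_assoc ((y : (Module.End K V)ˣ)⁻¹), ← scalarU_comm]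
      simp only [mul_assoc, δ, Subgroup.coe_mul, Subgroup.coe_inv, inv_mul_cancel_left,
        mul_inv_cancel_left]
    show ((δ (x * y) : (Module.End K V)ˣ) : Module.End K V) w = _
    rw [h2]
    rfl
  have hX : ∀ x y, X x → X y → X (x * y) → S.β (δ x) y = 1 := by
    intro x y hx hy hxy
    have h1 := (hXδ _).1 hxy F.u F.u_mem
    rw [hδmul x y F.u F.u_mem, (hXδ y).1 hy F.u F.u_mem, (hXδ x).1 hx F.u F.u_mem] at h1
    exact Units.ext ((smul_left_injective K F.u_ne (h1.trans (one_smul K F.u).symm)))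
  have hX3 : ∀ x y z, X x → X y → X z → X (x * y) → X (x * z) → X (y * z) → X (x * y * z) := by
    intro x y z hx hy hz hxy hxz hyz
    refine (hXδ _).2 fun w hw => ?_
    rw [hδmul _ _ w hw, (hXδ z).1 hz w hw, (hXδ _).1 hxy w hw]
    have e1 := hX x z hx hz hxz
    have e2 := hX y z hy hz hyz
    have hcls : (QuotientGroup.mk (δ (x * y)) : S.N) =
        QuotientGroup.mk (δ x) * QuotientGroup.mk (δ y) := by
      simp only [δ, S.cnj_mul, mul_inv_rev, QuotientGroup.mk_mul, QuotientGroup.mk_inv]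
      have key : ∀ p q r s : S.N, q * p * (r * s) = p * r * (q * s) := fun p q r s => by
        rw [mul_comm q p, mul_mul_mul_comm]
      exact key _ _ _ _
    have e3 : S.β (δ (x * y)) z = 1 := by
      rw [← S.pairing_mk, hcls, map_mul, MonoidHom.mul_apply, S.pairing_mk, S.pairing_mk, e1, e2,
        one_mul]
    rw [e3, Units.val_one, one_smul]
  have hXeq : ∀ x y, F.cls x = F.cls y → X x → X y := by
    intro x y hxy hx w hw
    have h1 : F.cls (x⁻¹ * y) = 1 := by rw [F.cls_mul, F.cls_inv, hxy, inv_mul_cancel]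
    have h2 : S.op y w = S.op x (S.op (x⁻¹ * y) w) := by
      rw [← Module.End.mul_apply, ← S.op_mul, mul_inv_cancel_left]
    rw [h2, hx _ (F.inv _ (F.cls_eq_one.1 h1) _ hw)]
  have hXcls : ∀ x, X (F.t hG (F.cls x)) → X x := fun x => hXeq _ x (F.cls_t hG _)
  have hXt : ∀ q, col (Additive.ofMul q) ≠ none → X (F.t hG q) := by
    intro q hc
    by_cases hq : q = 1
    · intro w hw
      rw [hq, F.t_one hG, S.op_one, Module.End.one_apply, hid w hw]
    obtain ⟨i, hi⟩ := Option.ne_none_iff_exists'.1 hc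
    have h1 := hcomp' q
    rw [hfix, hvne q hq i hi] at h1
    obtain ⟨c, hc⟩ := F.scalar (ρ q) (F.fpf _ (hρP q) _ (hvs i) (hvs0 i) ⟨1, by rw [one_smul]; exact h1⟩)
    have hc1 : c = 1 := smul_left_injective K (hvs0 i) ((hc _ (hvs i)).symm.trans (h1.trans (one_smul K _).symm))
    intro w hw
    rw [hmove, hid w hw, hfix, hc w hw, hc1, one_smul]
  have hXall : ∀ x, X x := by
    intro x
    refine hXcls x (hcl {q | X (F.t hG (Additive.toMul q))} (fun q hq => hXt _ hq) ?_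
      (Additive.ofMul (F.cls x)))
    intro a b c ha hb hc hab hac hbc
    simp only [Set.mem_setOf_eq, toMul_add] at hab hac hbc ⊢
    refine hXeq _ _ ?_ (hX3 _ _ _ ha hb hc (hXcls _ ?_) (hXcls _ ?_) (hXcls _ ?_))
    · rw [F.cls_mul, F.cls_mul, F.cls_t, F.cls_t, F.cls_t, F.cls_t]
    all_goals rw [F.cls_mul, F.cls_t, F.cls_t]; assumption
  refine Units.ext (LinearMap.ext fun z => ?_)
  obtain ⟨c, rfl⟩ : z ∈ LinearMap.range (F.Ψ hG) := htop ▸ Submodule.mem_top
  rw [Units.val_one, Module.End.one_apply, Ψ_apply, map_sum]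
  exact Finset.sum_congr rfl fun q _ => hXall _ _ (c q).2

end MFrame

end Sect

end H27.Base2
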