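import Cfsg.Agent.H27.Base2.Mono

/-!
Counting the orbits on the block, and transporting colourings to the blocks.
-/

set_option autoImplicit false
set_option linter.style.haveILetI false
set_option linter.unusedSectionVars false

namespace H27.Base2

open Module

variable {K V : Type} [Field K] [Finite K] [AddCommGroup V] [Module K V] [Finite V]
variable [Nontrivial V] {G : Subgroup (Module.End K V)ˣ}

namespace Sect.MFrame

variable {S : Sect G} (F : S.MFrame)

/-- The orbit of a vector of the block under the small lifts. -/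
def orb (w : V) : Set V :=
  {v | ∃ x : ↥S.M, (x : (Module.End K V)ˣ) ^ S.rr = 1 ∧
    (QuotientGroup.mk x : S.N) ∈ S.pairing.perp F.D ∧ S.op x w = v}

theorem orb_symm {v w : V} (h : v ∈ F.orb w) : w ∈ F.orb v := by
  obtain ⟨x, hx, hxP, rfl⟩ := h
  refine ⟨x⁻¹, by rw [Subgroup.coe_inv, inv_pow, hx, inv_one], ?_, ?_⟩
  · rw [QuotientGroup.mk_inv]; exact inv_mem hxP
  · rw [← Module.End.mul_apply, ← S.op_mul, inv_mul_cancel]; rfl

/-- Vectors in different orbits exist when the block is large enough. -/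
theorem exists_sep {b : ℕ} (hb : ∀ w ∈ F.B0, w ≠ 0 → (F.orb w).ncard ≤ b) :
    ∀ C : ℕ, C * b < Nat.card ↥F.B0 →
      ∃ vs : Fin C → V, (∀ i, vs i ∈ F.B0) ∧ (∀ i, vs i ≠ 0) ∧
        ∀ i j, vs j ∈ F.orb (vs i) → i = j := by
  classical
  intro C
  induction C with
  | zero => intro _; exact ⟨Fin.elim0, fun i => i.elim0, fun i => i.elim0, fun i => i.elim0⟩
  | succ C ih =>
    intro hlt
    obtain ⟨vs, h1, h2, h3⟩ := ih (lt_of_le_of_lt (Nat.mul_le_mul_right b C.le_succ) hlt)
    let bad : Set V := {0} ∪ ⋃ i, F.orb (vs i)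
    have hbad : bad.ncard ≤ 1 + C * b := by
      refine (Set.ncard_union_le _ _).trans (Nat.add_le_add (Set.ncard_singleton 0).le ?_)
      refine (Set.ncard_iUnion_le_of_fintype _).trans ?_
      calc ∑ i, (F.orb (vs i)).ncard ≤ ∑ _i : Fin C, b :=
            Finset.sum_le_sum fun i _ => hb _ (h1 i) (h2 i)
        _ = C * b := by simp
    have hb1 : 0 < C → 1 ≤ b := fun hC => by
      refine le_trans ?_ (hb _ (h1 ⟨0, hC⟩) (h2 _))
      refine (Set.ncard_pos (Set.toFinite _)).2 ⟨vs ⟨0, hC⟩, 1, ?_, ?_, ?_⟩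
      · rw [OneMemClass.coe_one, one_pow]
      · exact one_mem _
      · rfl
    obtain ⟨w, hw, hwb⟩ : ∃ w ∈ F.B0, w ∉ bad := by
      by_contra h
      push Not at h
      have h' : Nat.card ↥F.B0 ≤ 1 + C * b := by
        refine le_trans ?_ hbad
        rw [← SetLike.coe_sort_coe, Nat.card_coe_set_eq]
        exact Set.ncard_le_ncard h (Set.toFinite _)
      rcases Nat.eq_zero_or_pos C with hC | hC
      · subst hC
        have h2 : 2 ≤ Nat.card ↥F.B0 := by
          haveI : Nontrivial ↥F.B0 := ⟨⟨⟨F.u, F.u_mem⟩, 0, fun e => F.u_ne (congrArg Subtype.val e)⟩⟩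
          exact Finite.one_lt_card
        omega
      · have := hb1 hC
        rw [Nat.succ_mul] at hlt
        omega
    simp only [bad, Set.mem_union, Set.mem_singleton_iff, Set.mem_iUnion, not_or, not_exists] at hwb
    refine ⟨Fin.snoc vs w, fun i => ?_, fun i => ?_, fun i j h => ?_⟩
    · refine Fin.lastCases ?_ (fun i => ?_) i
      · rw [Fin.snoc_last]; exact hw
      · rw [Fin.snoc_castSucc]; exact h1 i
    · refine Fin.lastCases ?_ (fun i => ?_) i
      · rw [Fin.snoc_last]; exact hwb.1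
      · rw [Fin.snoc_castSucc]; exact h2 i
    · revert h
      refine Fin.lastCases ?_ (fun i => ?_) i <;> refine Fin.lastCases ?_ (fun j => ?_) j
      · exact fun _ => rfl
      · simp only [Fin.snoc_last, Fin.snoc_castSucc]
        exact fun h => absurd (F.orb_symm h) (hwb.2 j)
      · simp only [Fin.snoc_last, Fin.snoc_castSucc]
        exact fun h => absurd h (hwb.2 i)
      · simp only [Fin.snoc_castSucc]
        exact fun h => congrArg Fin.castSucc (h3 i j h)

/-- A scalar operator of small order on a vector has a small-order scalar. -/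
theorem scalar_pow {x : ↥S.M} (hx : (x : (Module.End K V)ˣ) ^ S.rr = 1) {w : V} (hw : w ≠ 0)
    {c : K} (hc : S.op x w = c • w) : c ^ S.rr = 1 := by
  have key : ∀ n : ℕ, (S.op x ^ n) w = c ^ n • w := by
    intro n
    induction n with
    | zero => simp
    | succ n ih => rw [pow_succ', Module.End.mul_apply, ih, map_smul, hc, smul_smul, ← pow_succ]
  have h := key S.rr
  rw [show S.op x ^ S.rr = 1 by rw [← Units.val_pow_eq_pow_val, hx]; rfl, Module.End.one_apply] at h
  exact smul_left_injective K hw (h.symm.trans (one_smul K w).symm)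

theorem scalar_sq_eq_one (hns : ¬ IsSquare (-1 : K)) {c : K} (h : c ^ 4 = 1) : c = 1 ∨ c = -1 := by
  have h2 : (c ^ 2) ^ 2 = 1 := by rw [← pow_mul]; exact h
  rcases sq_eq_one_iff.1 h2 with h' | h'
  · exact sq_eq_one_iff.1 h'
  · exact absurd ⟨c, by rw [← h']; ring⟩ hns

/-- Orbits for a one-dimensional block. -/
theorem orb_line (ha : F.a = 1) {w : V} (hw : w ∈ F.B0) (hw0 : w ≠ 0) :
    (F.orb w).ncard ≤ S.rr ∧ (S.r = 2 → ¬ IsSquare (-1 : K) → (F.orb w).ncard ≤ 2) := by
  classical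
  have hsub : F.orb w ⊆ (fun c : K => c • w) '' {c | c ^ S.rr = 1} := by
    rintro _ ⟨x, hx, hxP, rfl⟩
    rcases F.shape with ⟨-, hP⟩ | ⟨-, -, -, haD, -⟩
    · obtain ⟨c, hc⟩ := F.scalar x (hP ▸ hxP)
      exact ⟨c, scalar_pow hx hw0 (hc w hw), (hc w hw).symm⟩
    · exact absurd (by rw [ha]; exact one_mem _) haD
  have h1 : (F.orb w).ncard ≤ ({c : K | c ^ S.rr = 1}).ncard :=
    (Set.ncard_le_ncard hsub (Set.toFinite _)).trans (Set.ncard_image_le (Set.toFinite _))
  constructor
  · refine h1.trans ?_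
    have he : ({c : K | c ^ S.rr = 1}) = ↑(Polynomial.nthRootsFinset S.rr (1 : K)) := by
      ext c
      rw [Finset.mem_coe, Polynomial.mem_nthRootsFinset S.rr_pos]; rfl
    rw [he, Set.ncard_coe_finset, Polynomial.nthRootsFinset_def]
    exact (Multiset.toFinset_card_le _).trans (Polynomial.card_nthRoots _ _)
  · intro h2 hns
    refine h1.trans ((Set.ncard_le_ncard (t := ({1, -1} : Set K)) (fun c hc => ?_) (Set.toFinite _)).trans
      ((Set.ncard_insert_le _ _).trans (by simp)))
    simp only [Set.mem_setOf_eq, Sect.rr, if_pos h2] at hc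
    exact scalar_sq_eq_one hns hc

/-- Orbits for a two-dimensional block. -/
theorem orb_plane (hns : ¬ IsSquare (-1 : K)) (h2 : S.r = 2)
    (hidx : F.D.relIndex (S.pairing.perp F.D) ≤ 4) {w : V} (hw : w ∈ F.B0) (hw0 : w ≠ 0) :
    (F.orb w).ncard ≤ 8 := by
  classical
  set P := S.pairing.perp F.D
  let Q := ↥P ⧸ F.D.subgroupOf P
  have hrep : ∀ q : Q, ∃ v : V, ∀ x : ↥S.M, (x : (Module.End K V)ˣ) ^ S.rr = 1 →
      ∀ hx : (QuotientGroup.mk x : S.N) ∈ P, (QuotientGroup.mk ⟨_, hx⟩ : Q) = q →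
      S.op x w = v ∨ S.op x w = -v := by
    intro q
    by_cases hq : ∃ x1 : ↥S.M, (x1 : (Module.End K V)ˣ) ^ S.rr = 1 ∧
        ∃ hx1 : (QuotientGroup.mk x1 : S.N) ∈ P, (QuotientGroup.mk ⟨_, hx1⟩ : Q) = q
    · obtain ⟨x1, h1, hx1, hq1⟩ := hq
      refine ⟨S.op x1 w, fun x hx hxP hxq => ?_⟩
      have hd : (QuotientGroup.mk (x1⁻¹ * x) : S.N) ∈ F.D := QuotientGroup.eq.1 (hq1.trans hxq.symm)
      obtain ⟨c, hc⟩ := F.scalar _ hd
      have hc4 := scalar_pow (S.lift_mul (by rw [Subgroup.coe_inv, inv_pow, h1, inv_one]) hx) hw0 (hc w hw)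
      simp only [Sect.rr, if_pos h2] at hc4
      have hx' : S.op x w = c • S.op x1 w := by
        rw [← map_smul, ← hc w hw, ← Module.End.mul_apply, ← S.op_mul, mul_inv_cancel_left]
      rcases scalar_sq_eq_one hns hc4 with rfl | rfl
      · exact Or.inl (by rw [hx', one_smul])
      · exact Or.inr (by rw [hx', neg_one_smul])
    · exact ⟨0, fun x hx hxP hxq => absurd ⟨x, hx, hxP, hxq⟩ hq⟩
  choose v hv using hrep
  let φ : Q × Bool → V := fun qe => if qe.2 then v qe.1 else -v qe.1
  have hsub : F.orb w ⊆ Set.range φ := by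
    rintro _ ⟨x, hx, hxP, rfl⟩
    rcases hv _ x hx hxP rfl with h | h
    · exact ⟨(_, true), h.symm⟩
    · exact ⟨(_, false), h.symm⟩
  refine (Set.ncard_le_ncard hsub (Set.toFinite _)).trans ?_
  rw [← Set.image_univ]
  refine (Set.ncard_image_le (Set.toFinite _)).trans ?_
  rw [Set.ncard_univ, Nat.card_prod, Nat.card_eq_fintype_card (α := Bool), Fintype.card_bool]
  exact Nat.mul_le_mul_right 2 hidx

end Sect.MFrame

end H27.Base2
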