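import Cfsg.Agent.H27.Base2.Core
import Cfsg.Agent.H21.Base2.Main

/-!
The primitive step of the base-size-two theorem for coprime solvable groups.
-/

set_option autoImplicit false
set_option linter.style.haveILetI false
set_option linter.unusedSectionVars false

namespace H27.Base2

open H35.OddBase Module

/-- The primitive step, given the single-colour facts. -/
theorem primStep_of (hcol : ColOne) (hres : Residual) : H21.Base2.PrimStep := by
  intro G V _ _ _ _ _ _ _ hodd hcop hirr hprim hbelow hsub
  haveI := hirr.1
  classical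
  by_cases hall : ∀ N : Subgroup G, N.Normal → IsMulCommutative ↥N → N ≤ Subgroup.center G
  · obtain ⟨D⟩ := exists_fieldData hirr hprim (Subgroup.center G) inferInstance inferInstance
    refine hasPair_linear hirr hcop D hall fun Γ hΓ => ?_
    refine pairFor_of_linSetup hcol hres hΓ
      (fun H W _ _ _ _ _ h1 h2 h3 => hbelow H W h1 h2 h3) ?_
    rw [Module.natCard_eq_pow_finrank (K := D.K)] at hodd
    by_contra hK
    rw [Nat.not_odd_iff_even] at hK
    exact Nat.not_odd_iff_even.2 (hK.pow_of_ne_zero Module.finrank_pos.ne') hodd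
  · push Not at hall
    obtain ⟨N, hNn, hNc, hN⟩ := hall
    obtain ⟨D⟩ := exists_fieldData hirr hprim N hNn hNc
    obtain ⟨g0, hg0⟩ : ∃ g0 : G, D.σ g0 ≠ 1 := by
      by_contra h
      push Not at h
      refine hN fun a ha => Subgroup.mem_center_iff.2 fun g => ?_
      refine eq_of_smul_eq_smul fun v : V => ?_
      have hs : ∀ w : V, a • w = D.ι ⟨a, ha⟩ • w := fun w => D.scal ⟨a, ha⟩ w
      rw [mul_smul, mul_smul, hs, D.semi, h g, RingAut.one_apply, hs]
    exact hasPair_semi D hcop hg0 hsub

end H27.Base2
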