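import Cfsg.Agent.H27.Base2.Lin
import Cfsg.Agent.H35.OddBase.Pairing

/-!
The symplectic section of a coprime solvable linear group with scalar abelian normal subgroups.
-/

set_option autoImplicit false
set_option linter.style.haveILetI false
set_option linter.unusedSectionVars false

namespace H27.Base2

open Module
open scoped commutatorElement

variable {K V : Type} [Field K] [Finite K] [AddCommGroup V] [Module K V] [Finite V]

theorem scalarU_injective [Nontrivial V] : Function.Injective (scalarU K V) := by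
  intro a b h
  obtain ⟨x, hx⟩ := exists_ne (0 : V)
  have h' := DFunLike.congr_fun (congrArg Units.val h) x
  rw [scalarU_apply, scalarU_apply] at h'
  exact Units.ext (smul_left_injective K hx h')

instance scalarU_range_normal : (scalarU K V).range.Normal := ⟨by
  rintro _ ⟨c, rfl⟩ g
  rw [← scalarU_comm c g, mul_assoc, mul_inv_cancel, mul_one]
  exact ⟨c, rfl⟩⟩

/-- A minimal normal subgroup over the scalars. -/
structure Sect (G : Subgroup (Module.End K V)ˣ) where
  M : Subgroup (Module.End K V)ˣ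
  le : M ≤ G
  scal : (scalarU K V).range ≤ M
  norm : ∀ g ∈ G, ∀ a ∈ M, g * a * g⁻¹ ∈ M
  r : ℕ
  prime : r.Prime
  pow_mem : ∀ a ∈ M, a ^ r ∈ (scalarU K V).range
  comm : ∀ a ∈ M, ∀ b ∈ M, ⁅a, b⁆ ∈ (scalarU K V).range
  center : ∀ a ∈ M, (∀ b ∈ M, a * b = b * a) → a ∈ (scalarU K V).range
  minimal : ∀ H : Subgroup (Module.End K V)ˣ, (scalarU K V).range ≤ H → H ≤ M →
    (∀ g ∈ G, ∀ a ∈ H, g * a * g⁻¹ ∈ H) → H = (scalarU K V).range ∨ H = M
  proper : ¬ M ≤ (scalarU K V).range

theorem LinSetup.nonempty_sect [Nontrivial V] {G : Subgroup (Module.End K V)ˣ} (hG : LinSetup G)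
    (hne : ¬ G ≤ (scalarU K V).range) : Nonempty (Sect G) := by
  classical
  set Z := (scalarU K V).range with hZdef
  haveI : Finite (Subgroup (Module.End K V)ˣ) := by
    haveI : Finite (Module.End K V) := Finite.of_injective (fun f => (f : V → V)) DFunLike.coe_injective
    exact Finite.of_injective _ SetLike.coe_injective
  have hZG : Z ≤ G := by rintro _ ⟨c, rfl⟩; exact hG.scal c
  obtain ⟨M, ⟨⟨hMG, hZM, hMn⟩, hMne⟩, hmin⟩ := WellFounded.has_min (r := (· < ·)) wellFounded_lt
    {M : Subgroup (Module.End K V)ˣ | (M ≤ G ∧ Z ≤ M ∧ ∀ g ∈ G, ∀ a ∈ M, g * a * g⁻¹ ∈ M) ∧ ¬ M ≤ Z}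
    ⟨G, ⟨le_rfl, hZG, fun g hg a ha => G.mul_mem (G.mul_mem hg ha) (G.inv_mem hg)⟩, hne⟩
  have hmin' : ∀ H : Subgroup (Module.End K V)ˣ, Z ≤ H → H ≤ M →
      (∀ g ∈ G, ∀ a ∈ H, g * a * g⁻¹ ∈ H) → H = Z ∨ H = M := by
    intro H h1 h2 h3
    by_cases hH : H ≤ Z
    · exact Or.inl (le_antisymm hH h1)
    · exact Or.inr (h2.eq_or_lt.resolve_right fun h => hmin H ⟨⟨h2.trans hMG, h1, h3⟩, hH⟩ h)
  -- commutators are scalars
  have hcomm : ∀ a ∈ M, ∀ b ∈ M, ⁅a, b⁆ ∈ Z := by
    have hsub : ⁅M, M⁆ ⊔ Z ≤ M := sup_le (Subgroup.commutator_le_self M) hZM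
    have hn : ∀ g ∈ G, ∀ a ∈ ⁅M, M⁆ ⊔ Z, g * a * g⁻¹ ∈ ⁅M, M⁆ ⊔ Z := by
      intro g hg a ha
      have h1 : Subgroup.map (MulAut.conj g).toMonoidHom (⁅M, M⁆ ⊔ Z) ≤ ⁅M, M⁆ ⊔ Z := by
        rw [Subgroup.map_sup, Subgroup.map_commutator]
        refine sup_le_sup (Subgroup.commutator_mono ?_ ?_) ?_ <;>
          rintro _ ⟨x, hx, rfl⟩
        · exact hMn g hg x hx
        · exact hMn g hg x hx
        · exact (scalarU_range_normal (K := K) (V := V)).conj_mem x hx g
      exact h1 ⟨a, ha, rfl⟩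
    rcases hmin' _ le_sup_right hsub hn with h | h
    · exact fun a ha b hb => h.le (Subgroup.mem_sup_left (Subgroup.commutator_mem_commutator ha hb))
    · exfalso
      haveI := hG.solvable
      haveI : Group.IsSolvable ↥M :=
        solvable_of_solvable_injective (Subgroup.inclusion_injective hMG)
      have hD : ⁅M, M⁆ ≤ ⁅⁅M, M⁆, ⁅M, M⁆⁆ := by
        rw [Subgroup.commutator_le]
        intro a ha b hb
        rw [← h] at ha hb
        obtain ⟨x, hx, z, hz, rfl⟩ := Subgroup.mem_sup_of_normal_right.1 ha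
        obtain ⟨y, hy, w, hw, rfl⟩ := Subgroup.mem_sup_of_normal_right.1 hb
        obtain ⟨z, rfl⟩ := hz
        obtain ⟨w, rfl⟩ := hw
        have : ⁅x * scalarU K V z, y * scalarU K V w⁆ = ⁅x, y⁆ := by
          have hz : ∀ t : (Module.End K V)ˣ, scalarU K V z * t = t * scalarU K V z := fun t => scalarU_comm z t
          have hw : ∀ t : (Module.End K V)ˣ, scalarU K V w * t = t * scalarU K V w := fun t => scalarU_comm w t
          simp only [commutatorElement_def, mul_inv_rev]
          calc x * scalarU K V z * (y * scalarU K V w) * ((scalarU K V z)⁻¹ * x⁻¹) *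
                ((scalarU K V w)⁻¹ * y⁻¹)
              = x * (scalarU K V z * (y * scalarU K V w)) * (scalarU K V z)⁻¹ * x⁻¹ *
                (scalarU K V w)⁻¹ * y⁻¹ := by simp only [mul_assoc]
            _ = x * y * (scalarU K V w * x⁻¹) * (scalarU K V w)⁻¹ * y⁻¹ := by
                rw [hz (y * scalarU K V w)]; simp only [mul_assoc, mul_inv_cancel_left]
            _ = x * y * x⁻¹ * y⁻¹ := by
                rw [hw x⁻¹]; simp only [mul_assoc, mul_inv_cancel_left]
        rw [this]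
        exact Subgroup.commutator_mem_commutator hx hy
      have hDbot : ⁅M, M⁆ = ⊥ := by
        by_contra hbot
        set D := ⁅M, M⁆
        let D' : Subgroup ↥M := D.subgroupOf M
        have hD'ne : D' ≠ ⊥ := fun h => hbot <| by
          rw [Subgroup.eq_bot_iff_forall]
          intro x hx
          have := (Subgroup.eq_bot_iff_forall _).1 h ⟨x, Subgroup.commutator_le_self M hx⟩ hx
          exact congrArg Subtype.val this
        refine (Group.IsSolvable.commutator_lt_of_ne_bot hD'ne).ne ?_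
        refine le_antisymm (Subgroup.commutator_le_self _) ?_
        rw [← Subgroup.map_subtype_le_map_subtype, Subgroup.map_commutator]
        have hmap : D'.map M.subtype = D :=
          Subgroup.map_subgroupOf_eq_of_le (Subgroup.commutator_le_self M)
        rw [hmap]; exact hD
      rw [hDbot, bot_sup_eq] at h
      exact hMne h.ge
  -- the exponent
  have hcenter : ∀ a ∈ M, (∀ b ∈ M, a * b = b * a) → a ∈ Z := by
    intro a ha hab
    let C : Subgroup (Module.End K V)ˣ := M ⊓ Subgroup.centralizer (M : Set _)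
    have hC : C ≤ Z := by
      intro c hc
      obtain ⟨s, hs⟩ := hG.central C (inf_le_left.trans hMG) (fun g hg x hx => by
        refine ⟨hMn g hg x hx.1, Subgroup.mem_centralizer_iff.2 fun m hm => ?_⟩
        have hm' := hMn g⁻¹ (G.inv_mem hg) m hm
        rw [inv_inv] at hm'
        have h0 := Subgroup.mem_centralizer_iff.1 hx.2 _ hm'
        calc m * (g * x * g⁻¹) = g * ((g⁻¹ * m * g) * x) * g⁻¹ := by group
          _ = g * (x * (g⁻¹ * m * g)) * g⁻¹ := by rw [h0]
          _ = g * x * g⁻¹ * m := by group)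
        (fun x hx y hy => (Subgroup.mem_centralizer_iff.1 hx.2 y hy.1).symm) c hc
      exact ⟨s, hs.symm⟩
    exact hC ⟨ha, Subgroup.mem_centralizer_iff.2 fun b hb => (hab b hb).symm⟩
  obtain ⟨a, haM, haZ⟩ := SetLike.not_le_iff_exists.1 hMne
  haveI : Finite (Module.End K V) := Finite.of_injective (fun f => (f : V → V)) DFunLike.coe_injective
  have hex : ∃ n, 0 < n ∧ a ^ n ∈ Z := ⟨orderOf a, orderOf_pos a, by
    rw [pow_orderOf_eq_one]; exact Z.one_mem⟩
  obtain ⟨hn0, hnZ⟩ := Nat.find_spec hex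
  have hn1 : Nat.find hex ≠ 1 := fun h => haZ (by rwa [h, pow_one] at hnZ)
  obtain ⟨r, hr, k, hk⟩ := Nat.exists_prime_and_dvd hn1
  let q := QuotientGroup.mk' Z
  have hq : ∀ x ∈ M, ∀ y ∈ M, Commute (q x) (q y) := fun x hx y hy => by
    rw [← commutatorElement_eq_one_iff_commute, ← map_commutatorElement, QuotientGroup.mk'_apply,
      QuotientGroup.eq_one_iff]
    exact hcomm x hx y hy
  have hqZ : ∀ x, q x = 1 ↔ x ∈ Z := fun x => QuotientGroup.eq_one_iff x
  let H : Subgroup (Module.End K V)ˣ :=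
    { carrier := {x | x ∈ M ∧ x ^ r ∈ Z}
      one_mem' := ⟨M.one_mem, by rw [one_pow]; exact Z.one_mem⟩
      mul_mem' := fun {x y} hx hy => ⟨M.mul_mem hx.1 hy.1, by
        rw [← hqZ, map_pow, map_mul, (hq x hx.1 y hy.1).mul_pow, ← map_pow, ← map_pow,
          (hqZ _).2 hx.2, (hqZ _).2 hy.2, one_mul]⟩
      inv_mem' := fun {x} hx => ⟨M.inv_mem hx.1, by rw [inv_pow]; exact Z.inv_mem hx.2⟩ }
  have hH : H = Z ∨ H = M := hmin' H (fun x hx => ⟨hZM hx, Z.pow_mem hx r⟩) (fun x hx => hx.1)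
    fun g hg x hx => ⟨hMn g hg x hx.1, by
      rw [conj_pow]; exact scalarU_range_normal.conj_mem _ hx.2 g⟩
  have hHM : H = M := hH.resolve_left fun h => by
    have hk0 : 0 < k ∧ k < Nat.find hex := by
      rw [hk] at hn0 ⊢
      exact ⟨Nat.pos_of_mul_pos_left hn0,
        lt_mul_left (Nat.pos_of_mul_pos_left hn0) hr.one_lt⟩
    refine Nat.find_min hex hk0.2 ⟨hk0.1, h.le ⟨M.pow_mem haM k, ?_⟩⟩
    rw [← pow_mul, mul_comm k r, ← hk]; exact hnZ
  exact ⟨⟨M, hMG, hZM, hMn, r, hr, fun x hx => (hHM.ge hx).2, hcomm, hcenter, hmin', hMne⟩⟩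

namespace Sect

variable [Nontrivial V] {G : Subgroup (Module.End K V)ˣ} (S : Sect G)

theorem ex_pair {a b : (Module.End K V)ˣ} (ha : a ∈ S.M) (hb : b ∈ S.M) :
    ∃ c : Kˣ, a * b = scalarU K V c * (b * a) := by
  obtain ⟨c, hc⟩ := S.comm a ha b hb
  exact ⟨c, by rw [hc, commutatorElement_def]; group⟩

/-- The commutator scalar of two elements. -/
noncomputable def β (a b : ↥S.M) : Kˣ := (S.ex_pair a.2 b.2).choose

theorem β_spec (a b : ↥S.M) :
    (a : (Module.End K V)ˣ) * b = scalarU K V (S.β a b) * ((b : (Module.End K V)ˣ) * a) :=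
  (S.ex_pair a.2 b.2).choose_spec

theorem β_unique (a b : ↥S.M) {c : Kˣ}
    (h : (a : (Module.End K V)ˣ) * b = scalarU K V c * ((b : (Module.End K V)ˣ) * a)) :
    S.β a b = c :=
  scalarU_injective (mul_right_cancel ((S.β_spec a b).symm.trans h))

theorem β_self (a : ↥S.M) : S.β a a = 1 := S.β_unique a a (by rw [map_one, one_mul])

theorem β_swap (a b : ↥S.M) : S.β b a = (S.β a b)⁻¹ := S.β_unique b a (by
  rw [S.β_spec a b, map_inv, inv_mul_cancel_left])

theorem β_mul_left (a b c : ↥S.M) : S.β (a * b) c = S.β a c * S.β b c := S.β_unique _ _ (by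
  rw [Subgroup.coe_mul, mul_assoc, S.β_spec b c, ← mul_assoc, ← scalarU_comm, mul_assoc,
    ← mul_assoc (a : (Module.End K V)ˣ), S.β_spec a c, ← mul_assoc, ← mul_assoc,
    mul_comm (S.β a c), map_mul]
  simp only [mul_assoc])

theorem β_mul_right (a b c : ↥S.M) : S.β a (b * c) = S.β a b * S.β a c := by
  rw [S.β_swap (b * c) a, S.β_mul_left, mul_inv, ← S.β_swap, ← S.β_swap]

theorem β_scalar (a : ↥S.M) {c : Kˣ} (b : ↥S.M) (hb : (b : (Module.End K V)ˣ) = scalarU K V c) :
    S.β a b = 1 := S.β_unique _ _ (by rw [map_one, one_mul, hb, scalarU_comm])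

/-- The scalars inside the section. -/
abbrev Z : Subgroup ↥S.M := (scalarU K V).range.subgroupOf S.M

instance : S.Z.Normal := inferInstance

/-- The section. -/
abbrev N : Type := ↥S.M ⧸ S.Z

noncomputable instance : CommGroup S.N :=
  { (inferInstance : Group S.N) with
    mul_comm := fun a b => by
      obtain ⟨a, rfl⟩ := QuotientGroup.mk_surjective a
      obtain ⟨b, rfl⟩ := QuotientGroup.mk_surjective b
      refine QuotientGroup.eq.2 ?_
      show ((a * b)⁻¹ * (b * a) : (Module.End K V)ˣ) ∈ (scalarU K V).range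
      have : ((a * b)⁻¹ * (b * a) : (Module.End K V)ˣ) =
          ⁅(b : (Module.End K V)ˣ)⁻¹, (a : (Module.End K V)ˣ)⁻¹⁆ := by
        simp only [commutatorElement_def, Subgroup.coe_mul, Subgroup.coe_inv]; group
      rw [this]
      exact S.comm _ (S.M.inv_mem b.2) _ (S.M.inv_mem a.2) }

noncomputable instance : Finite S.N := by
  haveI : Finite (Module.End K V) := Finite.of_injective (fun f => (f : V → V)) DFunLike.coe_injective
  exact Quotient.finite _

theorem mem_Z {a : ↥S.M} : a ∈ S.Z ↔ ∃ c : Kˣ, scalarU K V c = (a : (Module.End K V)ˣ) := Iff.rfl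

theorem β_Z (a b : ↥S.M) (hb : b ∈ S.Z) : S.β a b = 1 := by
  obtain ⟨c, hc⟩ := hb
  exact S.β_scalar a b hc.symm

/-- The pairing as a map on the elements. -/
noncomputable def βHom : ↥S.M →* (S.N →* Kˣ) where
  toFun a := QuotientGroup.lift S.Z
    { toFun := S.β a
      map_one' := S.β_Z a 1 (one_mem _)
      map_mul' := S.β_mul_right a } fun b hb => S.β_Z a b hb
  map_one' := MonoidHom.ext fun x => by
    obtain ⟨b, rfl⟩ := QuotientGroup.mk_surjective x
    show S.β 1 b = 1
    rw [S.β_swap b 1, S.β_Z b 1 (one_mem _), inv_one]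
  map_mul' a b := MonoidHom.ext fun x => by
    obtain ⟨c, rfl⟩ := QuotientGroup.mk_surjective x
    exact S.β_mul_left a b c

/-- The commutator pairing on the section. -/
noncomputable def pairing : H35.OddBase.AltPairing S.N Kˣ where
  β := QuotientGroup.lift S.Z S.βHom fun a ha => MonoidHom.ext fun x => by
    obtain ⟨b, rfl⟩ := QuotientGroup.mk_surjective x
    show S.β a b = 1
    rw [S.β_swap b a, S.β_Z b a ha, inv_one]
  alt x := by
    obtain ⟨a, rfl⟩ := QuotientGroup.mk_surjective x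
    exact S.β_self a
  nondeg x hx := by
    obtain ⟨a, rfl⟩ := QuotientGroup.mk_surjective x
    refine (QuotientGroup.eq_one_iff a).2 (S.center a a.2 fun b hb => ?_)
    have h : S.β a ⟨b, hb⟩ = 1 := hx (QuotientGroup.mk ⟨b, hb⟩)
    have := S.β_spec a ⟨b, hb⟩
    rwa [h, map_one, one_mul] at this

@[simp] theorem pairing_mk (a b : ↥S.M) :
    S.pairing.β (QuotientGroup.mk a) (QuotientGroup.mk b) = S.β a b := rfl

theorem pow_r (x : S.N) : x ^ S.r = 1 := by
  obtain ⟨a, rfl⟩ := QuotientGroup.mk_surjective x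
  rw [← QuotientGroup.mk_pow, QuotientGroup.eq_one_iff]
  exact S.pow_mem a a.2

theorem β_pow_r (a b : ↥S.M) : S.β a b ^ S.r = 1 := by
  have h : S.pairing.β (QuotientGroup.mk a ^ S.r) (QuotientGroup.mk b) = S.β a b ^ S.r := by
    rw [map_pow, MonoidHom.pow_apply, pairing_mk]
  rw [← h, S.pow_r, map_one, MonoidHom.one_apply]

theorem nontrivial_N : Nontrivial S.N := by
  obtain ⟨a, ha, hna⟩ := SetLike.not_le_iff_exists.1 S.proper
  refine ⟨⟨QuotientGroup.mk ⟨a, ha⟩, 1, fun h => hna ?_⟩⟩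
  exact (QuotientGroup.eq_one_iff (⟨a, ha⟩ : ↥S.M)).1 h

/-- The order of the section is a square divisible by `r ^ 2`. -/
theorem exists_card : ∃ e, Nat.card S.N = e ^ 2 ∧ S.r ∣ e := by
  haveI := S.nontrivial_N
  obtain ⟨e, he⟩ := H35.OddBase.AltPairing.exists_sq (A := Kˣ) _ S.N rfl S.pairing
  refine ⟨e, he, ?_⟩
  haveI := Fact.mk S.prime
  obtain ⟨x, hx⟩ := exists_ne (1 : S.N)
  have : S.r ∣ e ^ 2 := he ▸ orderOf_eq_prime (S.pow_r x) hx ▸ orderOf_dvd_natCard x
  exact S.prime.dvd_of_dvd_pow this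

theorem exists_β_ne : ∃ a b : ↥S.M, S.β a b ≠ 1 := by
  haveI := S.nontrivial_N
  obtain ⟨x, hx⟩ := exists_ne (1 : S.N)
  obtain ⟨a, rfl⟩ := QuotientGroup.mk_surjective x
  by_contra h
  push Not at h
  exact hx (S.pairing.nondeg _ fun y => by
    obtain ⟨b, rfl⟩ := QuotientGroup.mk_surjective y
    exact h a b)

theorem exists_primitiveRoot : ∃ ζ : Kˣ, orderOf ζ = S.r := by
  obtain ⟨a, b, h⟩ := S.exists_β_ne
  haveI := Fact.mk S.prime
  exact ⟨_, orderOf_eq_prime (S.β_pow_r a b) h⟩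

theorem r_dvd : S.r ∣ Nat.card K - 1 := by
  obtain ⟨ζ, hζ⟩ := S.exists_primitiveRoot
  rw [← hζ, ← Nat.card_units]
  exact orderOf_dvd_natCard ζ

/-- Powers of products. -/
theorem β_mul_pow (a b : ↥S.M) (n : ℕ) :
    ((a : (Module.End K V)ˣ) * b) ^ n =
      scalarU K V (S.β b a ^ n.choose 2) * ((a : (Module.End K V)ˣ) ^ n * (b : (Module.End K V)ˣ) ^ n) := by
  induction n with
  | zero => simp
  | succ n ih =>
    have hb : (b : (Module.End K V)ˣ) ^ n * a =
        scalarU K V (S.β b a ^ n) * ((a : (Module.End K V)ˣ) * (b : (Module.End K V)ˣ) ^ n) := by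
      clear ih
      induction n with
      | zero => simp
      | succ n ihn =>
        rw [pow_succ' (b : (Module.End K V)ˣ), mul_assoc, ihn, ← mul_assoc, ← scalarU_comm, mul_assoc,
          ← mul_assoc (b : (Module.End K V)ˣ), S.β_spec b a, ← mul_assoc, ← mul_assoc, ← map_mul,
          ← pow_succ]
        simp only [mul_assoc]
    rw [pow_succ, ih, Nat.choose_succ_succ, Nat.choose_one_right]
    calc scalarU K V (S.β b a ^ n.choose 2) * ((a : (Module.End K V)ˣ) ^ n *
          (b : (Module.End K V)ˣ) ^ n) * (a * b)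
        = scalarU K V (S.β b a ^ n.choose 2) * ((a : (Module.End K V)ˣ) ^ n *
          ((b : (Module.End K V)ˣ) ^ n * a)) * b := by simp only [mul_assoc]
      _ = scalarU K V (S.β b a ^ n.choose 2) * ((a : (Module.End K V)ˣ) ^ n *
          scalarU K V (S.β b a ^ n) * ((a : (Module.End K V)ˣ) * (b : (Module.End K V)ˣ) ^ n)) * b := by
          rw [hb]; simp only [mul_assoc]
      _ = scalarU K V (S.β b a ^ n.choose 2) * (scalarU K V (S.β b a ^ n) *
          ((a : (Module.End K V)ˣ) ^ n * ((a : (Module.End K V)ˣ) * (b : (Module.End K V)ˣ) ^ n))) * b := by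
          rw [← scalarU_comm (S.β b a ^ n) ((a : (Module.End K V)ˣ) ^ n)]; simp only [mul_assoc]
      _ = _ := by
          rw [pow_add, mul_comm (S.β b a ^ n), map_mul]
          simp only [mul_assoc, pow_succ]

end Sect

end H27.Base2
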