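import Cfsg.Agent.H27.Base2.Frame

/-!
The translates of the block are independent.
-/

set_option autoImplicit false
set_option linter.style.haveILetI false
set_option linter.unusedSectionVars false

namespace H27.Base2

open Module

variable {K V : Type} [Field K] [Finite K] [AddCommGroup V] [Module K V] [Finite V]
variable [Nontrivial V] {G : Subgroup (Module.End K V)ˣ}

namespace Sect

variable {S : Sect G}

namespace MFrame

variable (F : S.MFrame)

/-- The block of the vector. -/
abbrev B0 : Submodule K V := Submodule.span K {F.u, S.op F.a F.u}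

/-- The classes permuting the blocks. -/
abbrev U : Type := S.N ⧸ S.pairing.perp F.D

theorem u_mem : F.u ∈ F.B0 := Submodule.subset_span (Set.mem_insert _ _)

theorem au_mem : S.op F.a F.u ∈ F.B0 := Submodule.subset_span (Set.mem_insert_of_mem _ rfl)

theorem D_le_perp : F.D ≤ S.pairing.perp F.D := by
  intro q hq
  obtain ⟨x, rfl⟩ := QuotientGroup.mk_surjective q
  intro q' hq'
  obtain ⟨y, rfl⟩ := QuotientGroup.mk_surjective q'
  obtain ⟨c, hc⟩ := (F.mem_D x).1 hq
  obtain ⟨e, he⟩ := (F.mem_D y).1 hq'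
  rw [pairing_mk]
  exact S.β_of_eigen F.u_ne hc he

/-- The class of an element among the blocks. -/
noncomputable abbrev cls (x : ↥S.M) : F.U := QuotientGroup.mk (QuotientGroup.mk x : S.N)

theorem cls_mul (x y : ↥S.M) : F.cls (x * y) = F.cls x * F.cls y := rfl

theorem cls_inv (x : ↥S.M) : F.cls x⁻¹ = (F.cls x)⁻¹ := rfl

theorem cls_eq_one {x : ↥S.M} : F.cls x = 1 ↔ (QuotientGroup.mk x : S.N) ∈ S.pairing.perp F.D :=
  QuotientGroup.eq_one_iff (QuotientGroup.mk x : S.N)

theorem exists_rep (hG : LinSetup G) (q : F.U) :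
    ∃ x : ↥S.M, F.cls x = q ∧ (x : (Module.End K V)ˣ) ^ S.rr = 1 := by
  obtain ⟨n, rfl⟩ := QuotientGroup.mk_surjective q
  obtain ⟨x, rfl⟩ := QuotientGroup.mk_surjective n
  obtain ⟨y, hy, hy'⟩ := S.exists_lift hG x
  exact ⟨y, by show QuotientGroup.mk _ = _; rw [hy], hy'⟩

variable (hG : LinSetup G)

/-- A small-order representative of each block. -/
noncomputable def t (q : F.U) : ↥S.M :=
  haveI := Classical.dec (q = 1)
  if q = 1 then 1 else (F.exists_rep hG q).choose

theorem t_one : F.t hG 1 = 1 := by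
  rw [t, if_pos rfl]

theorem cls_t (q : F.U) : F.cls (F.t hG q) = q := by
  classical
  rw [t]
  split_ifs with h
  · rw [h]; rfl
  · exact (F.exists_rep hG q).choose_spec.1

theorem t_pow (q : F.U) : ((F.t hG q : ↥S.M) : (Module.End K V)ˣ) ^ S.rr = 1 := by
  classical
  rw [t]
  split_ifs with h
  · rw [OneMemClass.coe_one, one_pow]
  · exact (F.exists_rep hG q).choose_spec.2

theorem rel_perp {x : ↥S.M} {q : F.U} (h : F.cls x = q) :
    (QuotientGroup.mk ((F.t hG q)⁻¹ * x) : S.N) ∈ S.pairing.perp F.D := by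
  rw [← F.cls_eq_one, F.cls_mul, F.cls_inv, F.cls_t, h, inv_mul_cancel]

/-- An element maps the block onto the block of its class. -/
theorem op_block {x : ↥S.M} {q : F.U} (h : F.cls x = q) {w : V} (hw : w ∈ F.B0) :
    ∃ w' ∈ F.B0, S.op x w = S.op (F.t hG q) w' := by
  refine ⟨S.op ((F.t hG q)⁻¹ * x) w, F.inv _ (F.rel_perp hG h) w hw, ?_⟩
  rw [← Module.End.mul_apply, ← S.op_mul, mul_inv_cancel_left]

/-- The sum of the translates of the block. -/
noncomputable def Ψ [Fintype F.U] : (F.U → ↥F.B0) →ₗ[K] V where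
  toFun v := ∑ q, S.op (F.t hG q) (v q : V)
  map_add' v w := by
    simp only [Pi.add_apply, Submodule.coe_add, map_add, Finset.sum_add_distrib]
  map_smul' c v := by
    simp only [Pi.smul_apply, SetLike.val_smul, map_smul, Finset.smul_sum, RingHom.id_apply]

theorem Ψ_apply [Fintype F.U] (v : F.U → ↥F.B0) :
    F.Ψ hG v = ∑ q, S.op (F.t hG q) (v q : V) := rfl

theorem mem_range_Ψ [Fintype F.U] (q : F.U) {w : V} (hw : w ∈ F.B0) :
    S.op (F.t hG q) w ∈ LinearMap.range (F.Ψ hG) := by
  classical
  refine ⟨Pi.single q ⟨w, hw⟩, ?_⟩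
  rw [Ψ_apply, Finset.sum_eq_single q]
  · rw [Pi.single_eq_same]
  · intro p _ hp
    rw [Pi.single_eq_of_ne hp, ZeroMemClass.coe_zero, map_zero]
  · intro h; exact absurd (Finset.mem_univ q) h

theorem range_invariant [Fintype F.U] (x : ↥S.M) {v : V} (hv : v ∈ LinearMap.range (F.Ψ hG)) :
    S.op x v ∈ LinearMap.range (F.Ψ hG) := by
  obtain ⟨c, rfl⟩ := hv
  rw [Ψ_apply, map_sum]
  refine Submodule.sum_mem _ fun q _ => ?_
  rw [← Module.End.mul_apply, ← S.op_mul]
  obtain ⟨w', hw', h⟩ := F.op_block hG (rfl : F.cls (x * F.t hG q) = _) (c q).2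
  rw [h]
  exact F.mem_range_Ψ hG _ hw'

/-- The blocks are independent and the section has the square of their total dimension as order. -/
theorem Ψ_spec [Fintype F.U] :
    Function.Injective (F.Ψ hG) ∧
      Nat.card S.N = finrank K ↥(LinearMap.range (F.Ψ hG)) ^ 2 ∧
      ((finrank K ↥F.B0 = 1 ∧ F.a = 1) ∨
        (finrank K ↥F.B0 = 2 ∧ S.r = 2 ∧ ¬ IsSquare (-1 : K))) := by
  classical
  set T := LinearMap.range (F.Ψ hG) with hT
  set P := S.pairing.perp F.D with hP
  -- lower bound from independence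
  haveI : Nontrivial ↥T := by
    refine ⟨⟨⟨S.op (F.t hG 1) F.u, F.mem_range_Ψ hG 1 F.u_mem⟩, 0, fun h => F.u_ne ?_⟩⟩
    have := congrArg Subtype.val h
    simpa [F.t_one hG, S.op_one] using this
  let R : ↥S.M →* Module.End K ↥T :=
    { toFun := fun x => (S.op x).restrict fun v hv => F.range_invariant hG x hv
      map_one' := LinearMap.ext fun v => Subtype.ext rfl
      map_mul' := fun x y => LinearMap.ext fun v => Subtype.ext rfl }
  have hlow : Nat.card S.N ≤ finrank K ↥T * finrank K ↥T := by
    refine S.pairing.card_le_finrank_sq (ι := Units.coeHom K) Units.val_injective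
      (fun q => R q.out) (fun p q => ?_) fun q => (Group.isUnit q.out).map R
    have hb : S.pairing.β p q = S.β p.out q.out := by
      conv_lhs => rw [← QuotientGroup.out_eq' p, ← QuotientGroup.out_eq' q]
      exact S.pairing_mk _ _
    refine LinearMap.ext fun v => Subtype.ext ?_
    show S.op p.out (S.op q.out (v : V)) = (S.pairing.β p q : K) • S.op q.out (S.op p.out (v : V))
    rw [hb]
    have h := DFunLike.congr_fun (congrArg Units.val (S.β_spec p.out q.out)) (v : V)
    simpa [Units.val_mul] using h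
  -- upper bound from the blocks
  have hUcard : Fintype.card F.U = P.index := by
    rw [← Nat.card_eq_fintype_card]; rfl
  have hfT : finrank K ↥T ≤ P.index * finrank K ↥F.B0 := by
    refine (LinearMap.finrank_range_le _).trans (le_of_eq ?_)
    rw [Module.finrank_pi_fintype, Finset.sum_const, Finset.card_univ, hUcard, smul_eq_mul]
  have hB2 : finrank K ↥F.B0 ≤ 2 := by
    refine (finrank_span_le_card _).trans ?_
    rw [Set.toFinset_insert, Set.toFinset_singleton]
    exact Finset.card_le_two
  have hle : P.index ≤ Nat.card ↥F.D :=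
    S.pairing.index_perp_le (ι := Units.coeHom K) Units.val_injective F.D
  have hN : Nat.card S.N = P.index * (F.D.relIndex P * Nat.card ↥F.D) := by
    rw [← Subgroup.index_mul_card F.D, ← Subgroup.relIndex_mul_index F.D_le_perp]; ring
  have hinj : P.index * finrank K ↥F.B0 ≤ finrank K ↥T → Function.Injective (F.Ψ hG) := by
    intro h
    rw [← LinearMap.ker_eq_bot, ← Submodule.finrank_eq_zero]
    have h1 := LinearMap.finrank_range_add_finrank_ker (F.Ψ hG)
    rw [Module.finrank_pi_fintype, Finset.sum_const, Finset.card_univ, hUcard, smul_eq_mul, ← hT] at h1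
    omega
  rcases F.shape with ⟨ha, hperp⟩ | ⟨h2, hns, haP, haD, hidx⟩
  · have hB1 : finrank K ↥F.B0 = 1 := by
      have : F.B0 = Submodule.span K {F.u} := by
        show Submodule.span K {F.u, S.op F.a F.u} = _
        rw [ha, S.op_one, Module.End.one_apply, Set.pair_eq_singleton]
      rw [this, finrank_span_singleton F.u_ne]
    rw [hB1, mul_one] at hfT hinj
    have hrel : F.D.relIndex P = 1 := Subgroup.relIndex_eq_one.2 hperp.le
    rw [hrel, one_mul] at hN
    have h1 : P.index * P.index ≤ Nat.card S.N := hN ▸ Nat.mul_le_mul_left _ hle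
    have h2 : finrank K ↥T = P.index := by
      refine le_antisymm hfT ?_
      by_contra h
      push Not at h
      exact absurd (h1.trans hlow) (Nat.not_le.2 (Nat.mul_self_lt_mul_self h))
    refine ⟨hinj h2.ge, ?_, Or.inl ⟨hB1, ha⟩⟩
    rw [h2, sq]
    exact le_antisymm (hlow.trans (h2 ▸ le_rfl)) h1
  · haveI := Fact.mk Nat.prime_two
    have hp : IsPGroup 2 S.N := fun x => ⟨1, by rw [pow_one, ← h2]; exact S.pow_r x⟩
    obtain ⟨j, hj⟩ := IsPGroup.iff_card.1 hp
    obtain ⟨i, -, hi⟩ := (Nat.dvd_prime_pow Nat.prime_two).1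
      (hj ▸ (P.index_dvd_card : P.index ∣ Nat.card S.N))
    obtain ⟨e, he, -⟩ := S.exists_card
    obtain ⟨k, -, hk⟩ := (Nat.dvd_prime_pow Nat.prime_two).1
      (show e ∣ 2 ^ j by rw [← hj, he]; exact dvd_pow_self e two_ne_zero)
    have hrel : 2 ≤ F.D.relIndex P := by
      have h0 : F.D.relIndex P ≠ 0 := (Subgroup.index_ne_zero_of_finite : (F.D.subgroupOf P).index ≠ 0)
      have h1 : F.D.relIndex P ≠ 1 := fun h => haD (Subgroup.relIndex_eq_one.1 h haP)
      omega
    have h1 : 2 * (P.index * P.index) ≤ Nat.card S.N := by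
      rw [hN]
      calc 2 * (P.index * P.index) = P.index * (2 * P.index) := by ring
        _ ≤ _ := Nat.mul_le_mul_left _ (Nat.mul_le_mul hrel hle)
    have hup : finrank K ↥T ≤ 2 * P.index := hfT.trans (by
      rw [mul_comm 2]; exact Nat.mul_le_mul_left _ hB2)
    have hlt : i < k := by
      by_contra h
      push Not at h
      have h3 : e ≤ P.index := by rw [hi, hk]; exact Nat.pow_le_pow_right two_pos h
      have h4 : 0 < P.index * P.index := by rw [hi]; positivity
      rw [he, sq] at h1
      have h5 := Nat.mul_le_mul h3 h3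
      omega
    have heT : e ≤ finrank K ↥T := by
      by_contra h
      push Not at h
      rw [he, sq] at hlow
      exact absurd hlow (Nat.not_le.2 (Nat.mul_self_lt_mul_self h))
    have he2 : 2 * P.index ≤ e := by
      rw [hi, hk, ← pow_succ']
      exact Nat.pow_le_pow_right two_pos hlt
    have hT2 : finrank K ↥T = 2 * P.index := le_antisymm hup (he2.trans heT)
    have hB : finrank K ↥F.B0 = 2 := by
      refine le_antisymm hB2 ?_
      by_contra h
      push Not at h
      have hpos : 0 < P.index := Nat.pos_of_ne_zero Subgroup.index_ne_zero_of_finite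
      have : P.index * finrank K ↥F.B0 ≤ P.index * 1 := Nat.mul_le_mul_left _ (by omega)
      omega
    refine ⟨hinj (by rw [hT2, hB, mul_comm]), ?_, Or.inr ⟨hB, h2, hns⟩⟩
    rw [he, hT2, le_antisymm (heT.trans hT2.le) he2]

end MFrame

end Sect

end H27.Base2
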